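import Groth.Agent.H14.MultiExt.BChart

/-!
Indexed affine charts with relations and double relations.
-/

set_option autoImplicit false
set_option backward.isDefEq.respectTransparency false
set_option backward.isDefEq.respectTransparency.types false
set_option linter.style.haveILetI false

universe u

open CategoryTheory CategoryTheory.Limits AlgebraicGeometry
open StMod (sch bmap)
open Groth.Agent.Lib.AlgStack
open FibCat (IsFibGrpd)
open AlgSt (IsAlgStack)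
open Groth.Agent.H14.GenFam

namespace Groth.Agent.H14.MultiExt

variable {S : Scheme.{u}} {𝒳 : AlgSt.Cat S}

/-- An indexed affine atlas with relations and double relations. -/
structure MChart (𝒳 : AlgSt.Cat S) where
  /-- the indices -/
  I : Type u
  /-- the charts -/
  x : I → 𝒳.obj
  affx : ∀ i, IsAffine (sch 𝒳 (x i))
  /-- the indices of the relations -/
  R : I → I → Type u
  /-- the relations -/
  w : ∀ {i j}, R i j → 𝒳.obj
  affw : ∀ {i j} (r : R i j), IsAffine (sch 𝒳 (w r))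
  /-- first projection -/
  p : ∀ {i j} (r : R i j), w r ⟶ x i
  /-- second projection -/
  q : ∀ {i j} (r : R i j), w r ⟶ x j
  flat : ∀ {i j} (r : R i j), Flat (bmap 𝒳 (p r))
  cover : ∀ o, IsAffine (sch 𝒳 o) → ∃ (n : ℕ) (C : Cover o (Fin n)), ∀ l, ∃ i, Nonempty (C.E l ⟶ x i)
  overlap : ∀ o, IsAffine (sch 𝒳 o) → ∀ {i j} (a : o ⟶ x i) (b : o ⟶ x j),
    ∃ (J : Type u) (_ : Finite J) (C : Cover o J), ∀ l, ∃ (r : R i j) (c : C.E l ⟶ w r),
      c ≫ p r = C.e l ≫ a ∧ c ≫ q r = C.e l ≫ b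
  overlap2 : ∀ o, IsAffine (sch 𝒳 o) → ∀ {i j} {r r' : R i j} (a : o ⟶ w r) (b : o ⟶ w r'),
    a ≫ p r = b ≫ p r' → a ≫ q r = b ≫ q r' →
    ∃ (J : Type u) (C : Cover o J), ∀ l, ∃ (d : 𝒳.obj) (_ : IsAffine (sch 𝒳 d)) (k : d ⟶ w r) (k' : d ⟶ w r'),
      k ≫ p r = k' ≫ p r' ∧ k ≫ q r = k' ≫ q r' ∧ Flat (bmap 𝒳 (k ≫ p r)) ∧
        ∃ c : C.E l ⟶ d, c ≫ k = C.e l ≫ a ∧ c ≫ k' = C.e l ≫ b

attribute [instance] MChart.affx MChart.affw

/-- A cover of an affine object refines to affine members inside given covering opens. -/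
theorem exists_refine (hfib : IsFibGrpd 𝒳.p) {o : 𝒳.obj} [IsAffine (sch 𝒳 o)] {J : Type u} [Finite J]
    (D : Cover o J) {ι : J → Type u} (O : ∀ j, ι j → (sch 𝒳 (D.E j)).Opens) (hO : ∀ j v, ∃ i, v ∈ O j i) :
    ∃ (K : Type u) (_ : Finite K) (D' : Cover o K) (σ : K → J) (π : ∀ k, D'.E k ⟶ D.E (σ k)),
      (∀ k, π k ≫ D.e (σ k) = D'.e k) ∧ ∀ k, ∃ i, Set.range (bmap 𝒳 (π k)) ⊆ O (σ k) i := by
  classical
  have hV : ∀ j (v : sch 𝒳 (D.E j)), ∃ (V : (sch 𝒳 (D.E j)).Opens) (i : ι j), IsAffineOpen V ∧ v ∈ V ∧ V ≤ O j i := by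
    intro j v
    obtain ⟨i, hi⟩ := hO j v
    obtain ⟨V, hV, hv, hle⟩ := exists_isAffineOpen_mem_and_subset (X := sch 𝒳 (D.E j)) (x := v) (U := O j i) hi
    exact ⟨V, i, hV, hv, hle⟩
  choose V i hVa hv hle using hV
  haveI := D.aff
  have hc : ∀ j, ∃ F : Finset (sch 𝒳 (D.E j)), ∀ v, ∃ v' ∈ F, v ∈ V j v' := fun j => by
    obtain ⟨F, hF⟩ := isCompact_univ.elim_finite_subcover (fun v => (V j v : Set (sch 𝒳 (D.E j))))
      (fun v => (V j v).2) fun v _ => Set.mem_iUnion.2 ⟨v, hv j v⟩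
    exact ⟨F, fun v => by simpa using hF (Set.mem_univ v)⟩
  choose F hF using hc
  let K := Σ j, { v // v ∈ F j }
  choose x φ e hφ using fun k : K => exists_obj hfib (D.E k.1) (V k.1 k.2.1).ι
  refine ⟨K, inferInstance, ⟨x, fun k => (haveI : IsAffine (V k.1 k.2.1).toScheme := hVa k.1 k.2.1
    IsAffine.of_isIso (e k).hom), fun k => φ k ≫ D.e k.1, fun k => ?_, fun z => ?_⟩, fun k => k.1, φ, fun k => rfl,
    fun k => ⟨i k.1 k.2.1, ?_⟩⟩
  · have := D.flat k.1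
    rw [StMod.bmap_comp, hφ]
    infer_instance
  · obtain ⟨j, y, hy⟩ := D.surj z
    obtain ⟨v, hvF, hyv⟩ := hF j y
    refine ⟨⟨j, v, hvF⟩, (e ⟨j, v, hvF⟩).inv ⟨y, hyv⟩, ?_⟩
    rw [StMod.bmap_comp, hφ, ← Scheme.Hom.comp_apply]
    simp only [Category.assoc, Iso.inv_hom_id_assoc]
    exact hy
  · rintro _ ⟨y, rfl⟩
    rw [hφ, Scheme.Hom.comp_apply]
    exact hle k.1 k.2.1 ((e k).hom y).2

/-- Maps factor through an open subobject. -/
theorem exists_factor (hfib : IsFibGrpd 𝒳.p) {o x x' : 𝒳.obj} (φ : x' ⟶ x) [IsOpenImmersion (bmap 𝒳 φ)]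
    (a : o ⟶ x) (h : Set.range (bmap 𝒳 a) ⊆ Set.range (bmap 𝒳 φ)) : ∃ c : o ⟶ x', c ≫ φ = a :=
  let ⟨f, _, hf⟩ := exists_hom_over hfib a φ (IsOpenImmersion.lift (bmap 𝒳 φ) (bmap 𝒳 a) h)
    (IsOpenImmersion.lift_fac _ _ _)
  ⟨f, hf⟩

/-- Maps to an open subobject are determined by the composite. -/
theorem cancel_sub (hfib : IsFibGrpd 𝒳.p) {o x x' : 𝒳.obj} (φ : x' ⟶ x) [IsOpenImmersion (bmap 𝒳 φ)]
    {a b : o ⟶ x'} (h : a ≫ φ = b ≫ φ) : a = b := by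
  refine BasedBasic.hom_eq_of_comp_eq hfib φ (Over.OverMorphism.ext ?_) h
  show bmap 𝒳 a = bmap 𝒳 b
  rw [← cancel_mono (bmap 𝒳 φ), ← StMod.bmap_comp, ← StMod.bmap_comp, h]

set_option maxHeartbeats 800000 in
/-- Every algebraic stack has an indexed affine chart. -/
theorem exists_mChart (h𝒳 : IsAlgStack Scheme.fppfPrecoverage 𝒳) : Nonempty (MChart 𝒳) := by
  classical
  obtain ⟨B⟩ := exists_bChart h𝒳
  have hf := h𝒳.isStack.1
  choose x φ ex hφ using fun i : (sch 𝒳 B.x).affineOpens => exists_obj hf B.x i.1.ι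
  haveI hφo : ∀ i, IsOpenImmersion (bmap 𝒳 (φ i)) := fun i => by rw [hφ]; infer_instance
  have rφ : ∀ i, Set.range (bmap 𝒳 (φ i)) = (i.1 : Set (sch 𝒳 B.x)) := fun i => by
    ext v
    constructor
    · rintro ⟨y, rfl⟩
      rw [hφ, Scheme.Hom.comp_apply]
      exact ((ex i).hom y).2
    · intro hv
      refine ⟨(ex i).inv ⟨v, hv⟩, ?_⟩
      rw [hφ, ← Scheme.Hom.comp_apply, Iso.inv_hom_id_assoc]
      rfl
  let R : (sch 𝒳 B.x).affineOpens → (sch 𝒳 B.x).affineOpens → Type u := fun i j =>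
    { V : (sch 𝒳 B.w).affineOpens // V.1 ≤ bmap 𝒳 B.p ⁻¹ᵁ i.1 ∧ V.1 ≤ bmap 𝒳 B.q ⁻¹ᵁ j.1 }
  choose w ψ ew hψ using fun V : (sch 𝒳 B.w).affineOpens => exists_obj hf B.w V.1.ι
  haveI hψo : ∀ V, IsOpenImmersion (bmap 𝒳 (ψ V)) := fun i => by rw [hψ]; infer_instance
  have rψ : ∀ i, Set.range (bmap 𝒳 (ψ i)) = (i.1 : Set (sch 𝒳 B.w)) := fun i => by
    ext v
    constructor
    · rintro ⟨y, rfl⟩
      rw [hψ, Scheme.Hom.comp_apply]
      exact ((ew i).hom y).2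
    · intro hv
      refine ⟨(ew i).inv ⟨v, hv⟩, ?_⟩
      rw [hψ, ← Scheme.Hom.comp_apply, Iso.inv_hom_id_assoc]
      rfl
  have hp : ∀ i j (r : R i j), ∃ c : w r.1 ⟶ x i, c ≫ φ i = ψ r.1 ≫ B.p := fun i j r => by
    refine exists_factor hf (φ i) _ ?_
    rintro _ ⟨y, rfl⟩
    rw [rφ, StMod.bmap_comp, Scheme.Hom.comp_apply]
    exact r.2.1 (show bmap 𝒳 (ψ r.1) y ∈ (r.1.1 : Set (sch 𝒳 B.w)) from rψ r.1 ▸ ⟨y, rfl⟩)
  have hq : ∀ i j (r : R i j), ∃ c : w r.1 ⟶ x j, c ≫ φ j = ψ r.1 ≫ B.q := fun i j r => by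
    refine exists_factor hf (φ j) _ ?_
    rintro _ ⟨y, rfl⟩
    rw [rφ, StMod.bmap_comp, Scheme.Hom.comp_apply]
    exact r.2.2 (show bmap 𝒳 (ψ r.1) y ∈ (r.1.1 : Set (sch 𝒳 B.w)) from rψ r.1 ▸ ⟨y, rfl⟩)
  choose p hp using hp
  choose q hq using hq
  refine ⟨{
    I := (sch 𝒳 B.x).affineOpens
    x := x
    affx := fun i => (haveI : IsAffine i.1.toScheme := i.2; IsAffine.of_isIso (ex i).hom)
    R := R
    w := fun r => w r.1
    affw := fun r => (haveI : IsAffine r.1.1.toScheme := r.1.2; IsAffine.of_isIso (ew r.1).hom)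
    p := fun r => p _ _ r
    q := fun r => q _ _ r
    flat := fun {i j} r => ?_
    cover := fun o ho => ?_
    overlap := fun o ho {i j} a b => ?_
    overlap2 := fun o ho {i j r r'} a b hab hab' => ?_ }⟩
  · have h1 : Flat (bmap 𝒳 (p i j r) ≫ bmap 𝒳 (φ i)) := by
      rw [← StMod.bmap_comp, hp, StMod.bmap_comp]
      have := B.flat
      infer_instance
    exact MorphismProperty.of_postcomp (W := @Flat) (W' := @IsOpenImmersion) _ _ (hφo i) h1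
  · obtain ⟨n, D, hD⟩ := B.cover o ho
    let D₁ : Cover o (ULift.{u} (Fin n)) := ⟨fun j => D.E j.down, fun j => D.aff _, fun j => D.e _,
      fun j => D.flat _, fun v => by obtain ⟨j, h⟩ := D.surj v; exact ⟨⟨j⟩, h⟩⟩
    obtain ⟨K, _, D', σ, π, hπ, hr⟩ := exists_refine hf D₁ (ι := fun _ => (sch 𝒳 B.x).affineOpens)
      (fun l i => bmap 𝒳 (hD l.down).some ⁻¹ᵁ i.1) fun l v => by
        obtain ⟨V, hV, hv, -⟩ := exists_isAffineOpen_mem_and_subset (X := sch 𝒳 B.x)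
          (x := bmap 𝒳 (hD l.down).some v) (U := ⊤) trivial
        exact ⟨⟨V, hV⟩, hv⟩
    obtain ⟨m, ⟨eK⟩⟩ := Finite.exists_equiv_fin K
    refine ⟨m, ⟨fun l => D'.E (eK.symm l), fun l => D'.aff _, fun l => D'.e _, fun l => D'.flat _, fun v => by
      obtain ⟨k, hk⟩ := D'.surj v
      obtain ⟨l, rfl⟩ := eK.symm.surjective k
      exact ⟨l, hk⟩⟩, fun l => ?_⟩
    obtain ⟨i, hi⟩ := hr (eK.symm l)
    obtain ⟨c, -⟩ := exists_factor hf (φ i) (π (eK.symm l) ≫ (hD (σ (eK.symm l)).down).some) (by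
      rintro _ ⟨y, rfl⟩
      rw [rφ, StMod.bmap_comp, Scheme.Hom.comp_apply]
      exact hi ⟨y, rfl⟩)
    exact ⟨i, ⟨c⟩⟩
  · obtain ⟨J, _, D, hD⟩ := B.overlap o ho (a ≫ φ i) (b ≫ φ j)
    choose c hc hc' using hD
    obtain ⟨K, _, D', σ, π, hπ, hr⟩ := exists_refine hf D (ι := fun _ => R i j)
      (fun l r => bmap 𝒳 (c l) ⁻¹ᵁ r.1.1) fun l v => by
        have h1 : bmap 𝒳 B.p (bmap 𝒳 (c l) v) ∈ i.1 := by
          rw [← Scheme.Hom.comp_apply, ← StMod.bmap_comp, hc l, ← Category.assoc, StMod.bmap_comp, Scheme.Hom.comp_apply]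
          exact (show bmap 𝒳 (φ i) _ ∈ (i.1 : Set (sch 𝒳 B.x)) from rφ i ▸ ⟨_, rfl⟩)
        have h2 : bmap 𝒳 B.q (bmap 𝒳 (c l) v) ∈ j.1 := by
          rw [← Scheme.Hom.comp_apply, ← StMod.bmap_comp, hc' l, ← Category.assoc, StMod.bmap_comp, Scheme.Hom.comp_apply]
          exact (show bmap 𝒳 (φ j) _ ∈ (j.1 : Set (sch 𝒳 B.x)) from rφ j ▸ ⟨_, rfl⟩)
        obtain ⟨V, hV, hv, hle⟩ := exists_isAffineOpen_mem_and_subset (X := sch 𝒳 B.w)
          (x := bmap 𝒳 (c l) v) (U := bmap 𝒳 B.p ⁻¹ᵁ i.1 ⊓ bmap 𝒳 B.q ⁻¹ᵁ j.1) ⟨h1, h2⟩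
        exact ⟨⟨⟨V, hV⟩, fun z hz => (hle hz).1, fun z hz => (hle hz).2⟩, hv⟩
    refine ⟨K, inferInstance, D', fun l => ?_⟩
    obtain ⟨r, hr⟩ := hr l
    obtain ⟨d, hd⟩ := exists_factor hf (ψ r.1) (π l ≫ c (σ l)) (by
      rintro _ ⟨y, rfl⟩
      rw [rψ, StMod.bmap_comp, Scheme.Hom.comp_apply]
      exact hr ⟨y, rfl⟩)
    refine ⟨r, d, cancel_sub hf (φ i) ?_, cancel_sub hf (φ j) ?_⟩
    · rw [Category.assoc, hp, ← Category.assoc, hd, Category.assoc, hc, ← Category.assoc, hπ, Category.assoc]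
    · rw [Category.assoc, hq, ← Category.assoc, hd, Category.assoc, hc', ← Category.assoc, hπ, Category.assoc]
  · obtain ⟨J, D, hD⟩ := B.overlap2 o ho (a ≫ ψ r.1) (b ≫ ψ r'.1)
      (by rw [Category.assoc, ← hp, Category.assoc, ← hp, ← Category.assoc, hab, Category.assoc])
      (by rw [Category.assoc, ← hq, Category.assoc, ← hq, ← Category.assoc, hab', Category.assoc])
    choose c hc hc' using hD
    -- affine opens of the double relation inside both relations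
    let T := { V : (sch 𝒳 B.w2).affineOpens //
      V.1 ≤ bmap 𝒳 B.k ⁻¹ᵁ r.1.1 ∧ V.1 ≤ bmap 𝒳 B.k' ⁻¹ᵁ r'.1.1 }
    have hE : ∀ (l : J) (v : sch 𝒳 (D.E l)), ∃ V : T, bmap 𝒳 (c l) v ∈ V.1.1 := fun l v => by
      have h1 : bmap 𝒳 B.k (bmap 𝒳 (c l) v) ∈ r.1.1 := by
        rw [← Scheme.Hom.comp_apply, ← StMod.bmap_comp, hc l, ← Category.assoc, StMod.bmap_comp, Scheme.Hom.comp_apply]
        exact (show bmap 𝒳 (ψ r.1) _ ∈ (r.1.1 : Set (sch 𝒳 B.w)) from rψ r.1 ▸ ⟨_, rfl⟩)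
      have h2 : bmap 𝒳 B.k' (bmap 𝒳 (c l) v) ∈ r'.1.1 := by
        rw [← Scheme.Hom.comp_apply, ← StMod.bmap_comp, hc' l, ← Category.assoc, StMod.bmap_comp, Scheme.Hom.comp_apply]
        exact (show bmap 𝒳 (ψ r'.1) _ ∈ (r'.1.1 : Set (sch 𝒳 B.w)) from rψ r'.1 ▸ ⟨_, rfl⟩)
      obtain ⟨V, hV, hv, hle⟩ := exists_isAffineOpen_mem_and_subset (X := sch 𝒳 B.w2)
        (x := bmap 𝒳 (c l) v) (U := bmap 𝒳 B.k ⁻¹ᵁ r.1.1 ⊓ bmap 𝒳 B.k' ⁻¹ᵁ r'.1.1) ⟨h1, h2⟩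
      exact ⟨⟨⟨V, hV⟩, fun z hz => (hle hz).1, fun z hz => (hle hz).2⟩, hv⟩
    choose V hV using hE
    have hW : ∀ (l : J) (v : sch 𝒳 (D.E l)), ∃ (W : (sch 𝒳 (D.E l)).Opens), IsAffineOpen W ∧ v ∈ W ∧
        W ≤ bmap 𝒳 (c l) ⁻¹ᵁ (V l v).1.1 := fun l v =>
      exists_isAffineOpen_mem_and_subset (X := sch 𝒳 (D.E l)) (x := v) (U := bmap 𝒳 (c l) ⁻¹ᵁ (V l v).1.1) (hV l v)
    choose W hWa hWv hWle using hW
    choose e ε ee hε using fun k : (Σ l, sch 𝒳 (D.E l)) => exists_obj hf (D.E k.1) (W k.1 k.2).ι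
    let D' : Cover o (Σ l, sch 𝒳 (D.E l)) := ⟨e,
      fun k => (haveI : IsAffine (W k.1 k.2).toScheme := hWa k.1 k.2; IsAffine.of_isIso (ee k).hom),
      fun k => ε k ≫ D.e k.1, fun k => by
        have := D.flat k.1
        rw [StMod.bmap_comp, hε]
        infer_instance,
      fun z => by
        obtain ⟨l, y, hy⟩ := D.surj z
        refine ⟨⟨l, y⟩, (ee ⟨l, y⟩).inv ⟨y, hWv l y⟩, ?_⟩
        rw [StMod.bmap_comp, hε, ← Scheme.Hom.comp_apply]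
        simp only [Category.assoc, Iso.inv_hom_id_assoc]
        exact hy⟩
    refine ⟨_, D', fun k => ?_⟩
    obtain ⟨d, δ, ed, hδ⟩ := exists_obj hf B.w2 (V k.1 k.2).1.1.ι
    haveI : IsOpenImmersion (bmap 𝒳 δ) := by rw [hδ]; infer_instance
    obtain ⟨κ, hκ⟩ := exists_factor hf (ψ r.1) (δ ≫ B.k) (by
      rintro _ ⟨y, rfl⟩
      rw [rψ, StMod.bmap_comp, hδ, Scheme.Hom.comp_apply, Scheme.Hom.comp_apply]
      exact (V k.1 k.2).2.1 (ed.hom y).2)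
    obtain ⟨κ', hκ'⟩ := exists_factor hf (ψ r'.1) (δ ≫ B.k') (by
      rintro _ ⟨y, rfl⟩
      rw [rψ, StMod.bmap_comp, hδ, Scheme.Hom.comp_apply, Scheme.Hom.comp_apply]
      exact (V k.1 k.2).2.2 (ed.hom y).2)
    obtain ⟨cd, hcd⟩ := exists_factor hf δ (ε k ≫ c k.1) (by
      rintro _ ⟨y, rfl⟩
      have hy : bmap 𝒳 (ε k) y ∈ W k.1 k.2 := by
        rw [hε, Scheme.Hom.comp_apply]
        exact ((ee k).hom y).2
      have hy' : bmap 𝒳 (c k.1) (bmap 𝒳 (ε k) y) ∈ (V k.1 k.2).1.1 := hWle k.1 k.2 hy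
      refine ⟨ed.inv ⟨_, hy'⟩, ?_⟩
      rw [StMod.bmap_comp, Scheme.Hom.comp_apply (bmap 𝒳 (ε k)), hδ, ← Scheme.Hom.comp_apply, Iso.inv_hom_id_assoc]
      rfl)
    refine ⟨d, (haveI : IsAffine (V k.1 k.2).1.1.toScheme := (V k.1 k.2).1.2; IsAffine.of_isIso ed.hom),
      κ, κ', cancel_sub hf (φ i) ?_, cancel_sub hf (φ j) ?_, ?_, cd, cancel_sub hf (ψ r.1) ?_, cancel_sub hf (ψ r'.1) ?_⟩
    · rw [Category.assoc, hp, ← Category.assoc, hκ, Category.assoc, Category.assoc κ', hp, ← Category.assoc κ', hκ',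
        Category.assoc, B.hp]
    · rw [Category.assoc, hq, ← Category.assoc, hκ, Category.assoc, Category.assoc κ', hq, ← Category.assoc κ', hκ',
        Category.assoc, B.hq]
    · have h1 : Flat (bmap 𝒳 (κ ≫ p i j r) ≫ bmap 𝒳 (φ i)) := by
        rw [← StMod.bmap_comp, Category.assoc, hp, ← Category.assoc, hκ, Category.assoc, StMod.bmap_comp]
        have := B.flat2
        infer_instance
      exact MorphismProperty.of_postcomp (W := @Flat) (W' := @IsOpenImmersion) _ _ (hφo i) h1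
    · rw [Category.assoc, hκ, ← Category.assoc, hcd, Category.assoc, hc]
      exact (Category.assoc _ _ _).symm.trans (Category.assoc _ _ _).symm
    · rw [Category.assoc, hκ', ← Category.assoc, hcd, Category.assoc, hc']
      exact (Category.assoc _ _ _).symm.trans (Category.assoc _ _ _).symm

end Groth.Agent.H14.MultiExt
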