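import Groth.Agent.H14.MultiExt.ExtEval
import Groth.Agent.H14.GenFam.Glue

/-!
Functoriality of the extension, and preservation of surjectivity.
-/

set_option autoImplicit false
set_option backward.isDefEq.respectTransparency false
set_option backward.isDefEq.respectTransparency.types false
set_option linter.style.haveILetI false

universe u

open CategoryTheory CategoryTheory.Limits AlgebraicGeometry Opposite TensorProduct
open StMod (sch bmap)
open Groth.Agent.Lib.AlgStack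
open Groth.Agent.H14.ModDesc
open Groth.Agent.H14.GenFam (bc_extend bc_ext bc_induction FlatFun Ext AlgB isBC_mk sl_ext sl_extend bmap_hom_comp Cover exists_obj exists_hom_over mapHom isBC_mapHom exists_hom_of_local)

namespace Groth.Agent.H14.MultiExt

variable {S : Scheme.{u}} {𝒳 : AlgSt.Cat S}

/-- A natural transformation of functors of modules. -/
structure FlatHom (Φ Φ' : FlatFun 𝒳) where
  /-- the components -/
  app : ∀ (o : 𝒳.obj) [IsAffine (sch 𝒳 o)], Φ.obj o →ₗ[Γ(sch 𝒳 o, ⊤)] Φ'.obj o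
  natural : ∀ {o' o : 𝒳.obj} [IsAffine (sch 𝒳 o')] [IsAffine (sch 𝒳 o)] (e : o' ⟶ o) (s : Φ.obj o),
    app o' (Φ.res e s) = Φ'.res e (app o s)

variable {Φ Φ' : FlatFun 𝒳} (η : FlatHom Φ Φ') {C : MChart 𝒳} (hfib : FibCat.IsFibGrpd 𝒳.p)

theorem exists_mmMap {z : 𝒳.obj} {i : C.I} (a : z ⟶ C.x i) :
    ∃ F : MM Φ C a →ₗ[Γ(sch 𝒳 z, ⊤)] MM Φ' C a, ∀ m, F (unitM Φ C a m) = unitM Φ' C a (η.app (C.x i) m) :=
  bc_extend (isBC_mk _ _) ((unitM Φ' C a).comp (η.app (C.x i)).toAddMonoidHom) (fun r m => by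
    show unitM Φ' C a (η.app (C.x i) (r • m)) = _
    rw [map_smul]
    exact (isBC_mk _ _).sl r _)

/-- The map of extensions at an object. -/
noncomputable def mmMap {z : 𝒳.obj} {i : C.I} (a : z ⟶ C.x i) :
    MM Φ C a →ₗ[Γ(sch 𝒳 z, ⊤)] MM Φ' C a :=
  (exists_mmMap η a).choose

theorem mmMap_unit {z : 𝒳.obj} {i : C.I} (a : z ⟶ C.x i) (m : Φ.obj (C.x i)) :
    mmMap η a (unitM Φ C a m) = unitM Φ' C a (η.app (C.x i) m) :=
  (exists_mmMap η a).choose_spec m

theorem resM_mmMap {z' z : 𝒳.obj} (g : z' ⟶ z) {i : C.I} {a : z ⟶ C.x i} {a' : z' ⟶ C.x i} (h : g ≫ a = a')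
    (v : MM Φ C a) : resM g h (mmMap η a v) = mmMap η a' (resM g h v) := by
  refine DFunLike.congr_fun (sl_ext (isBC_mk _ (Φ.obj (C.x i))) (ψ := (bmap 𝒳 g).appTop.hom)
    (F := (resM g h).comp (mmMap η a).toAddMonoidHom) (G := (mmMap η a').toAddMonoidHom.comp (resM g h))
    (fun r m => ?_) (fun r m => ?_) fun m => ?_) v
  · show resM g h (mmMap η a (r • m)) = _
    rw [map_smul, isSL_resM g h]
    rfl
  · show mmMap η a' (resM g h (r • m)) = _
    rw [isSL_resM g h, map_smul]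
    rfl
  · show resM g h (mmMap η a (unitM Φ C a m)) = mmMap η a' (resM g h (unitM Φ C a m))
    rw [mmMap_unit, resM_unit, resM_unit, mmMap_unit]

theorem mmMap_psi {d₀ : 𝒳.obj} [IsAffine (sch 𝒳 d₀)] {i : C.I} {P : d₀ ⟶ C.x i} (hP : Flat (bmap 𝒳 P)) {d : 𝒳.obj}
    (f : d ⟶ d₀) {a' : d ⟶ C.x i} (h : f ≫ P = a') (t : Φ.obj d₀) :
    mmMap η a' (psi hP f h t) = psi hP f h (η.app d₀ t) := by
  refine DFunLike.congr_fun (sl_ext (Φ.bc P hP) (ψ := (bmap 𝒳 f).appTop.hom)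
    (F := (mmMap η a').toAddMonoidHom.comp (psi hP f h)) (G := (psi hP f h).comp (η.app d₀).toAddMonoidHom)
    (fun r m => ?_) (fun r m => ?_) fun m => ?_) t
  · show mmMap η a' (psi hP f h (r • m)) = _
    rw [isSL_psi hP f h, map_smul]
    rfl
  · show psi hP f h (η.app d₀ (r • m)) = _
    rw [map_smul, isSL_psi hP f h]
    rfl
  · show mmMap η a' (psi hP f h (Φ.res P m)) = psi hP f h (η.app d₀ (Φ.res P m))
    rw [psi_res, mmMap_unit, η.natural, psi_res]

theorem mmMap_kappa {z : 𝒳.obj} [IsAffine (sch 𝒳 z)] {i j : C.I} (a : z ⟶ C.x i) (b : z ⟶ C.x j) (v : MM Φ C b) :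
    mmMap η a (kappa hfib a b v) = kappa hfib a b (mmMap η b v) := by
  refine LinearMap.congr_fun (bc_ext (isBC_mk (bmap 𝒳 b).appTop.hom (Φ.obj (C.x j)))
    (F := (mmMap η a).comp (kappa hfib a b)) (G := (kappa hfib a b).comp (mmMap η b))
    (s := Set.univ) Submodule.span_univ fun s _ => ?_) v
  show mmMap η a (kappa hfib a b (unitM Φ C b s)) = kappa hfib a b (mmMap η b (unitM Φ C b s))
  rw [kappa_unit, mmMap_unit, kappa_unit]
  refine kappaVal_unique hfib a b _ fun d _ e r c hp hq => ?_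
  rw [resM_mmMap, resM_kappaVal hfib a b s e c hp hq, kv, kv, mmMap_psi, η.natural]

theorem bijective_phiA {o : 𝒳.obj} [IsAffine (sch 𝒳 o)] {i : C.I} (a : o ⟶ C.x i) (ha : Flat (bmap 𝒳 a)) :
    Function.Bijective (phiA Φ hfib o a) := by
  show Function.Bijective (fun s => chi Φ a (extEv Φ hfib o a s))
  refine Function.Bijective.comp (g := chi Φ a) ?_ (bijective_extEv Φ hfib o a)
  refine Function.Bijective.of_comp_iff (chi Φ a) (bijective_psi Φ ha) |>.1 ?_
  have : (chi Φ a) ∘ psi ha (𝟙 o) (Category.id_comp a) = id := funext fun t =>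
    (chi_psi Φ ha (𝟙 o) (Category.id_comp a) t).trans (Φ.res_id o t)
  rw [this]
  exact Function.bijective_id

theorem phiA_eq {o : 𝒳.obj} [IsAffine (sch 𝒳 o)] {i j : C.I} (a : o ⟶ C.x i) (b : o ⟶ C.x j)
    (s : Γ((extQ (C := C) Φ hfib).obj.obj o, ⊤)) : phiA Φ hfib o a s = phiA Φ hfib o b s := by
  have := phiA_natural Φ hfib (𝟙 o) a b s
  rwa [StMod.Mod.mapTop_id, Φ.res_id] at this

theorem mmMap_surjective {z : 𝒳.obj} {i : C.I} (a : z ⟶ C.x i) (h : Function.Surjective (η.app (C.x i))) :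
    Function.Surjective (mmMap η a) := fun y =>
  bc_induction (isBC_mk (bmap 𝒳 a).appTop.hom (Φ'.obj (C.x i))) (P := fun y => ∃ x, mmMap η a x = y) ⟨0, map_zero _⟩
    (fun p q ⟨x, hx⟩ ⟨x', hx'⟩ => ⟨x + x', by rw [map_add, hx, hx']⟩) (fun c m => by
      obtain ⟨s, rfl⟩ := h m
      exact ⟨c • unitM Φ C a s, by rw [map_smul, mmMap_unit]⟩) y

theorem chi_mmMap {o : 𝒳.obj} [IsAffine (sch 𝒳 o)] {i : C.I} (a : o ⟶ C.x i) (v : MM Φ C a) :
    chi Φ' a (mmMap η a v) = η.app o (chi Φ a v) := by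
  refine LinearMap.congr_fun (bc_ext (isBC_mk (bmap 𝒳 a).appTop.hom (Φ.obj (C.x i)))
    (F := (chi Φ' a).comp (mmMap η a)) (G := (η.app o).comp (chi Φ a)) (s := Set.univ) Submodule.span_univ
    fun s _ => ?_) v
  show chi Φ' a (mmMap η a (unitM Φ C a s)) = η.app o (chi Φ a (unitM Φ C a s))
  rw [mmMap_unit, chi_unit, chi_unit, η.natural]

theorem exists_mapAt {o : 𝒳.obj} [IsAffine (sch 𝒳 o)] {i : C.I} (a : o ⟶ C.x i) :
    ∃ σ : Γ((extQ (C := C) Φ hfib).obj.obj o, ⊤) →ₗ[Γ(sch 𝒳 o, ⊤)] Γ((extQ (C := C) Φ' hfib).obj.obj o, ⊤),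
      ∀ s, extEv Φ' hfib o a (σ s) = mmMap η a (extEv Φ hfib o a s) := by
  choose f hf using fun s => (bijective_extEv Φ' hfib o a).surjective (mmMap η a (extEv Φ hfib o a s))
  refine ⟨{ toFun := f, map_add' := fun s t => ?_, map_smul' := fun r s => ?_ }, hf⟩
  · apply (bijective_extEv Φ' hfib o a).injective
    rw [hf, map_add, map_add, map_add, hf, hf]
  · apply (bijective_extEv Φ' hfib o a).injective
    rw [RingHom.id_apply, hf, extEv_smul, extEv_smul, map_smul, hf]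

set_option maxHeartbeats 1600000 in
include hfib in
/-- The morphism of extensions induced by a natural transformation. -/
theorem exists_extMap : ∃ v : extQ (C := C) Φ hfib ⟶ extQ (C := C) Φ' hfib,
    (∀ (o : 𝒳.obj) [IsAffine (sch 𝒳 o)] {i : C.I} (a : o ⟶ C.x i) s,
      phiA Φ' hfib o a ((v.hom.app o).app ⊤ s) = η.app o (phiA Φ hfib o a s)) ∧
    ((∀ i, Function.Surjective (η.app (C.x i))) → StMod.Mod.IsSurj v.hom) := by
  choose σ hσ using fun (o : 𝒳.obj) (h : IsAffine (sch 𝒳 o)) (i : C.I) (a : o ⟶ C.x i) =>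
    exists_mapAt (Φ := Φ) η hfib a
  have nat : ∀ {o' o : 𝒳.obj} (h' : IsAffine (sch 𝒳 o')) (h : IsAffine (sch 𝒳 o)) (p' : C.Has o') (p : C.Has o)
      (e : o' ⟶ o) (t : Γ((extQ (C := C) Φ hfib).obj.obj o, ⊤)),
      (extQ (C := C) Φ' hfib).obj.mapTop e (σ o h p.choose p.choose_spec.some t) =
        σ o' h' p'.choose p'.choose_spec.some ((extQ (C := C) Φ hfib).obj.mapTop e t) := by
    intro o' o h' h p' p e t
    apply (bijective_extEv Φ' hfib o' p'.choose_spec.some).injective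
    rw [hσ, extEv_mapTop Φ' hfib e p.choose_spec.some, extEv_mapTop Φ hfib e p.choose_spec.some, hσ, resM_mmMap,
      mmMap_kappa]
  obtain ⟨ψ, hψ⟩ := exists_hom_of_local hfib (extQ (C := C) Φ hfib) (extQ (C := C) Φ' hfib) C.Has
    (fun e p => p.mono e) C.cover (fun o h p => σ o h p.choose p.choose_spec.some) nat
  refine ⟨ObjectProperty.homMk ψ, fun o _ i a s => ?_, fun hsurj o ho => ?_⟩
  · have hp : C.Has o := MChart.Has.of_map C a
    show phiA Φ' hfib o a ((ψ.app o).app ⊤ s) = _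
    rw [hψ o ‹_› hp, phiA_eq hfib a hp.choose_spec.some, phiA_apply, hσ, chi_mmMap, phiA_eq hfib a hp.choose_spec.some,
      phiA_apply]
  · obtain ⟨n, D, hD⟩ := C.cover o ho
    let : ∀ j, Algebra Γ(sch 𝒳 o, ⊤) Γ(sch 𝒳 (D.E j), ⊤) := fun j => (bmap 𝒳 (D.e j)).appTop.hom.toAlgebra
    have : ∀ j, IsAffine (sch 𝒳 (D.E j)) := D.aff
    have : ∀ j, Module.Flat Γ(sch 𝒳 o, ⊤) Γ(sch 𝒳 (D.E j), ⊤) := fun j =>
      have := D.flat j
      flat_appTop (bmap 𝒳 (D.e j))
    let F := extQ (C := C) Φ hfib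
    let G := extQ (C := C) Φ' hfib
    let f : Γ(F.obj.obj o, ⊤) →ₗ[Γ(sch 𝒳 o, ⊤)] Γ(G.obj.obj o, ⊤) :=
      { toFun := fun s => (ψ.app o).app ⊤ s
        map_add' := map_add ((ψ.app o).app ⊤).hom
        map_smul' := fun r s => Scheme.Modules.Hom.app_smul (ψ.app o) r s }
    have hs : ∀ j, Function.Surjective ((ψ.app (D.E j)).app ⊤) := fun j y => by
      obtain ⟨x, hx⟩ := mmMap_surjective η (hD j).choose_spec.some (hsurj _)
        (extEv Φ' hfib (D.E j) (hD j).choose_spec.some y)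
      obtain ⟨s, rfl⟩ := (bijective_extEv Φ hfib (D.E j) (hD j).choose_spec.some).surjective x
      refine ⟨s, (bijective_extEv Φ' hfib (D.E j) (hD j).choose_spec.some).injective ?_⟩
      exact (congrArg (extEv Φ' hfib (D.E j) (hD j).choose_spec.some) (hψ _ (D.aff j) (hD j) s)).trans
        ((hσ _ (D.aff j) _ _ s).trans hx)
    refine surjective_of_lTensor (fun j => Γ(sch 𝒳 (D.E j), ⊤))
      (jointlySurj_appTop (fun j => bmap 𝒳 (D.e j)) (fun j => rfl) D.surj) f fun j t => ?_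
    obtain ⟨hF, hFb⟩ := (isBC_iff rfl).1 (isBC_mapHom F (D.e j))
    obtain ⟨hG, hGb⟩ := (isBC_iff rfl).1 (isBC_mapHom G (D.e j))
    obtain ⟨x, hx⟩ := hs j (bcMap _ _ (mapHom G.obj (D.e j)) hG t)
    obtain ⟨t', rfl⟩ := hFb.surjective x
    refine ⟨t', hGb.injective (Eq.trans ?_ hx)⟩
    clear hx
    induction t' with
    | zero => rw [map_zero, map_zero, map_zero, map_zero]
    | tmul c s =>
      rw [LinearMap.lTensor_tmul, bcMap_tmul, bcMap_tmul]
      refine Eq.trans ?_ (Scheme.Modules.Hom.app_smul (ψ.app (D.E j)) c _).symm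
      exact congrArg (c • ·) (StMod.Mod.mapTop_app ψ (D.e j) s)
    | add a b ha hb =>
      rw [map_add, map_add, map_add, ha, hb]
      exact (map_add ((ψ.app (D.E j)).app ⊤).hom _ _).symm

end Groth.Agent.H14.MultiExt
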