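import Groth.Agent.H14.GenFam.Chart2FP

/-!
Atlases of algebraic stacks with their double relations.
-/

set_option autoImplicit false
set_option backward.isDefEq.respectTransparency false
set_option backward.isDefEq.respectTransparency.types false
set_option linter.style.haveILetI false

universe u

open CategoryTheory CategoryTheory.Limits AlgebraicGeometry
open StMod (sch bmap fibCat)
open Groth.Agent.Lib.AlgStack
open FibCat (IsFibGrpd IsEquivOver fp fpFst fpSnd overCat)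
open AlgSt (overMap RepByAlgSpWith IsAlgStack)
open AlgSp (LocP)
open Groth.Agent.H14.GenFam

namespace Groth.Agent.H14.MultiExt

variable {S : Scheme.{u}} {𝒵 : AlgSt.Cat S}

/-- An atlas with its relation and double relation, no affineness or finiteness assumed. -/
structure BChart (𝒳 : AlgSt.Cat S) where
  /-- the atlas -/
  x : 𝒳.obj
  /-- the relation -/
  w : 𝒳.obj
  /-- first projection -/
  p : w ⟶ x
  /-- second projection -/
  q : w ⟶ x
  cover : ∀ o, IsAffine (sch 𝒳 o) → ∃ (n : ℕ) (C : Cover o (Fin n)), ∀ j, Nonempty (C.E j ⟶ x)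
  overlap : ∀ o, IsAffine (sch 𝒳 o) → ∀ a b : o ⟶ x, ∃ (J : Type u) (_ : Finite J) (C : Cover o J),
    ∀ j, ∃ c : C.E j ⟶ w, c ≫ p = C.e j ≫ a ∧ c ≫ q = C.e j ≫ b
  flat : Flat (bmap 𝒳 p)
  /-- the double relation -/
  w2 : 𝒳.obj
  /-- first map -/
  k : w2 ⟶ w
  /-- second map -/
  k' : w2 ⟶ w
  hp : k ≫ p = k' ≫ p
  hq : k ≫ q = k' ≫ q
  flat2 : Flat (bmap 𝒳 (k ≫ p))
  overlap2 : ∀ o, IsAffine (sch 𝒳 o) → ∀ a b : o ⟶ w, a ≫ p = b ≫ p → a ≫ q = b ≫ q →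
    ∃ (J : Type u) (C : Cover o J), ∀ j, ∃ c : C.E j ⟶ w2, c ≫ k = C.e j ≫ a ∧ c ≫ k' = C.e j ≫ b

/-- An atlas of the relation, flat over the atlas. -/
theorem exists_relChart (h𝒵 : IsAlgStack Scheme.fppfPrecoverage 𝒵) {U : Over S} (x₀ : overCat U ⥤ᵇ 𝒵)
    (hxs : RepByAlgSpWith (LocP @Smooth) x₀) :
    ∃ (W : Over S) (z : overCat W ⥤ᵇ fp x₀ x₀), RepByAlgSpWith (LocP @Smooth) z ∧
      RepByAlgSpWith AlgSp.IsSurjectiveMor z ∧ Flat (z.obj (Over.mk (𝟙 W))).obj.fst.hom.left := by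
  have hUc := H14.Chart.Basic.isAlgStack_overCat U
  obtain ⟨W, z, hzs, hze⟩ := (H14.Chart.Basic.isAlgStack_fp h𝒵 hUc hUc x₀ x₀).atlas
  refine ⟨W, z, hzs, hze, ?_⟩
  let F := BasedFunctor.comp z (fpFst x₀ x₀)
  obtain ⟨k, ⟨ι⟩⟩ := H14.Chart.Points.exists_iso_overMap F
  have hF : RepByAlgSpWith (LocP @Smooth) F :=
    IsAlgFp.comp_locP H14.Chart.QC.smoothST (Yoneda.isFibGrpd_overCat W)
      (FibProd.isFibGrpd_fp (Yoneda.isFibGrpd_overCat U) (Yoneda.isFibGrpd_overCat U) h𝒵.isStack.1) hzs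
      (Rep.repByAlgSpWith_fpFst x₀ hxs)
  have h2 := H14.Chart.LocQ.prop_of_rep_overMap (IsAlgFp.respectsIsoSp_locP H14.Chart.QC.smoothST)
    (IsAlgFp.detected_locP H14.Chart.QC.smoothST) (Rep.repByAlgSpWith_of_iso ι hF)
  have hk : Smooth k.left := h2 (𝟙 _) (𝟙 _) k (AlgSp.repWith_id _ _) (AlgSp.repWith_id _ _) (by simp)
  let i : (z.obj (Over.mk (𝟙 W))).obj.fst ≅ (overMap k).obj (Over.mk (𝟙 W)) :=
    BasedBasic.appIso ι (Over.mk (𝟙 W))
  have hi : IsIso i.hom.left := inferInstance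
  haveI : IsIso i.hom.left.left := inferInstanceAs (IsIso ((Over.forget S).map i.hom.left))
  have e : (z.obj (Over.mk (𝟙 W))).obj.fst.hom.left = i.hom.left.left ≫ k.left := by
    have h := congrArg CommaMorphism.left (Over.w i.hom)
    refine h.symm.trans ?_
    simp [AlgSt.overMap]
  rw [e]
  infer_instance

set_option maxHeartbeats 800000 in
/-- Every algebraic stack has an atlas with a double relation. -/
theorem exists_bChart (h𝒵 : IsAlgStack Scheme.fppfPrecoverage 𝒵) : Nonempty (BChart 𝒵) := by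
  obtain ⟨U, x₀, hxs, hxe⟩ := h𝒵.atlas
  have hf := h𝒵.isStack.1
  have hUc := H14.Chart.Basic.isAlgStack_overCat U
  obtain ⟨W, z, hzs, hze, hfl⟩ := exists_relChart h𝒵 x₀ hxs
  have hR := H14.Chart.Basic.isAlgStack_fp h𝒵 hUc hUc x₀ x₀
  have hfR := hR.isStack.1
  obtain ⟨W2, z2, hz2s, hz2e, hfl2⟩ := exists_relChart hR z hzs
  let Pz := z.obj (Over.mk (𝟙 W))
  let Pz2 := z2.obj (Over.mk (𝟙 W2))
  let w2R := z.obj Pz2.obj.fst
  let p2 : w2R ⟶ Pz := z.map (Yoneda.toId Pz2.obj.fst)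
  let q2 : w2R ⟶ Pz := Pz2.obj.iso.hom ≫ z.map (Yoneda.toId Pz2.obj.snd)
  let p : x₀.obj Pz.obj.fst ⟶ x₀.obj (Over.mk (𝟙 U)) := x₀.map (Yoneda.toId Pz.obj.fst)
  let q : x₀.obj Pz.obj.fst ⟶ x₀.obj (Over.mk (𝟙 U)) := Pz.obj.iso.hom ≫ x₀.map (Yoneda.toId Pz.obj.snd)
  have hxo : 𝒵.p.obj (x₀.obj (Over.mk (𝟙 U))) = U := x₀.w_obj _
  have hPz : (fp x₀ x₀).p.obj Pz = W := z.w_obj _
  have hPz2 : (fp x₀ x₀).p.obj w2R = W2 := (z.w_obj _).trans (z2.w_obj _)
  -- the morphisms to the atlas are flat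
  have hflmap : ∀ (t : Over U), Flat t.hom.left → Flat (bmap 𝒵 (x₀.map (Yoneda.toId t))) := fun t ht => by
    haveI := Yoneda.map_toId_isHomLift x₀ t
    show Flat (𝒵.p.map (x₀.map (Yoneda.toId t))).left
    rw [IsHomLift.fac' 𝒵.p t.hom (x₀.map (Yoneda.toId t))]
    simp only [Over.comp_left, Over.eqToHom_left]
    infer_instance
  have hflw2 : Flat w2R.obj.fst.hom.left := by
    have h1 : Flat p2.hom.fst.left.left := by
      haveI := Yoneda.map_toId_isHomLift z Pz2.obj.fst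
      show Flat ((fp x₀ x₀).p.map p2).left
      rw [IsHomLift.fac' (fp x₀ x₀).p Pz2.obj.fst.hom p2]
      simp only [Over.comp_left, Over.eqToHom_left]
      infer_instance
    have h3 : w2R.obj.fst.hom.left = p2.hom.fst.left.left ≫ Pz.obj.fst.hom.left :=
      (congrArg CommaMorphism.left (Over.w p2.hom.fst)).symm
    rw [h3]
    have : Flat Pz.obj.fst.hom.left := hfl
    infer_instance
  refine ⟨{
    x := x₀.obj (Over.mk (𝟙 U))
    w := x₀.obj Pz.obj.fst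
    p := p
    q := q
    cover := fun o ho => exists_cover_chart hf hxs hxe o
    overlap := fun o ho a b => exists_overlap hf x₀ z hzs hze o ho a b
    flat := hflmap _ hfl
    w2 := x₀.obj w2R.obj.fst
    k := x₀.map p2.hom.fst
    k' := x₀.map q2.hom.fst
    hp := ?_
    hq := ?_
    flat2 := ?_
    overlap2 := fun o ho a b hab hab' => ?_ }⟩
  · show x₀.map p2.hom.fst ≫ x₀.map _ = x₀.map q2.hom.fst ≫ x₀.map _
    rw [← x₀.toFunctor.map_comp, ← x₀.toFunctor.map_comp]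
    congr 1
    exact Over.OverMorphism.ext ((Over.w p2.hom.fst).trans (Over.w q2.hom.fst).symm)
  · show x₀.map p2.hom.fst ≫ Pz.obj.iso.hom ≫ x₀.map _ = x₀.map q2.hom.fst ≫ Pz.obj.iso.hom ≫ x₀.map _
    rw [← Category.assoc, show x₀.map p2.hom.fst ≫ Pz.obj.iso.hom = w2R.obj.iso.hom ≫ x₀.map p2.hom.snd from p2.hom.w,
      ← Category.assoc, show x₀.map q2.hom.fst ≫ Pz.obj.iso.hom = w2R.obj.iso.hom ≫ x₀.map q2.hom.snd from q2.hom.w,
      Category.assoc, Category.assoc]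
    refine congrArg (w2R.obj.iso.hom ≫ ·) ?_
    rw [← x₀.toFunctor.map_comp, ← x₀.toFunctor.map_comp]
    congr 1
    exact Over.OverMorphism.ext ((Over.w p2.hom.snd).trans (Over.w q2.hom.snd).symm)
  · have e : x₀.map p2.hom.fst ≫ p = x₀.map (Yoneda.toId w2R.obj.fst) := by
      show x₀.map p2.hom.fst ≫ x₀.map _ = _
      rw [← x₀.toFunctor.map_comp]
      congr 1
      exact Over.OverMorphism.ext (Over.w p2.hom.fst)
    rw [e]
    exact hflmap _ hflw2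
  · let ga : Over U := Over.mk (StMod.baseOver (BasedFunctor.id 𝒵) o (a ≫ p) ≫ eqToHom hxo)
    let gb : Over U := Over.mk (StMod.baseOver (BasedFunctor.id 𝒵) o (a ≫ q) ≫ eqToHom hxo)
    have key : ∀ (k : o ⟶ x₀.obj (Over.mk (𝟙 U))),
        ∃ i : o ≅ x₀.obj (Over.mk (StMod.baseOver (BasedFunctor.id 𝒵) o k ≫ eqToHom hxo)),
          𝒵.p.IsHomLift (𝟙 (𝒵.p.obj o)) i.hom ∧ i.hom ≫ x₀.map (Yoneda.toId _) = k := fun k => by
      refine exists_isoOver hf k _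
        (x₀.w_obj (Over.mk (StMod.baseOver (BasedFunctor.id 𝒵) o k ≫ eqToHom hxo))).symm ?_
      haveI := Yoneda.map_toId_isHomLift x₀ (Over.mk (StMod.baseOver (BasedFunctor.id 𝒵) o k ≫ eqToHom hxo))
      rw [IsHomLift.fac' 𝒵.p (Over.mk (StMod.baseOver (BasedFunctor.id 𝒵) o k ≫ eqToHom hxo)).hom
        (x₀.map (Yoneda.toId _))]
      simp
    obtain ⟨ia, hia, hia'⟩ := key (a ≫ p)
    obtain ⟨ib, hib, hib'⟩ := key (a ≫ q)
    haveI := IsHomLift.lift_id_inv 𝒵.p (𝒵.p.obj o) ia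
    let P : (fp x₀ x₀).obj := FibProd.objMk ga gb (ia.symm ≪≫ ib) (by
      show 𝒵.p.IsHomLift (𝟙 (𝒵.p.obj o)) (ia.inv ≫ ib.hom)
      infer_instance)
    have hPaff : IsAffine (sch (fp x₀ x₀) P) := ho
    have hm : ∀ c : o ⟶ x₀.obj Pz.obj.fst, c ≫ p = a ≫ p → c ≫ q = a ≫ q →
        ∃ m : P ⟶ Pz, x₀.map m.hom.fst = ia.inv ≫ c := fun c hc hc' => by
      let cb : 𝒵.p.obj o ⟶ Pz.obj.fst.left := 𝒵.p.map c ≫ eqToHom (x₀.w_obj Pz.obj.fst)
      have hpb : 𝒵.p.map p = eqToHom (x₀.w_obj Pz.obj.fst) ≫ Pz.obj.fst.hom ≫ eqToHom hxo.symm := by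
        haveI := Yoneda.map_toId_isHomLift x₀ Pz.obj.fst
        exact IsHomLift.fac' 𝒵.p Pz.obj.fst.hom (x₀.map (Yoneda.toId Pz.obj.fst))
      have hqb : 𝒵.p.map q = eqToHom (x₀.w_obj Pz.obj.fst) ≫ eqToHom (FibProd.snd_obj Pz).symm ≫
          Pz.obj.snd.hom ≫ eqToHom hxo.symm := by
        haveI := Yoneda.map_toId_isHomLift x₀ Pz.obj.snd
        haveI : 𝒵.p.IsHomLift (𝟙 ((overCat U).p.obj Pz.obj.fst)) Pz.obj.iso.hom := Pz.property
        show 𝒵.p.map (Pz.obj.iso.hom ≫ x₀.map (Yoneda.toId Pz.obj.snd)) = _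
        rw [Functor.map_comp, IsHomLift.fac' 𝒵.p (𝟙 ((overCat U).p.obj Pz.obj.fst)) Pz.obj.iso.hom,
          IsHomLift.fac' 𝒵.p Pz.obj.snd.hom (x₀.map (Yoneda.toId Pz.obj.snd))]
        simp
      let m₁ : ga ⟶ Pz.obj.fst := Over.homMk cb (by
        show cb ≫ Pz.obj.fst.hom = StMod.baseOver (BasedFunctor.id 𝒵) o (a ≫ p) ≫ eqToHom hxo
        rw [← hc]
        simp [cb, StMod.baseOver, hpb])
      let m₂ : gb ⟶ Pz.obj.snd := Over.homMk (cb ≫ eqToHom (FibProd.snd_obj Pz).symm) (by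
        show (cb ≫ eqToHom (FibProd.snd_obj Pz).symm) ≫ Pz.obj.snd.hom =
          StMod.baseOver (BasedFunctor.id 𝒵) o (a ≫ q) ≫ eqToHom hxo
        rw [← hc']
        simp [cb, StMod.baseOver, hqb])
      haveI := Yoneda.map_isHomLift x₀ m₁
      haveI := Yoneda.map_isHomLift x₀ m₂
      have hfst : x₀.map m₁ = ia.inv ≫ c := by
        refine BasedBasic.hom_eq_of_comp_eq hf p ?_ ?_
        · rw [IsHomLift.fac' 𝒵.p m₁.left (x₀.map m₁), Functor.map_comp, IsHomLift.fac' 𝒵.p (𝟙 (𝒵.p.obj o)) ia.inv]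
          simp [m₁, cb]
        · refine Eq.trans ?_ (((Category.assoc ia.inv c p).trans
            ((congrArg (ia.inv ≫ ·) (hc.trans hia'.symm)).trans (Iso.inv_hom_id_assoc ia _)))).symm
          refine (x₀.toFunctor.map_comp _ _).symm.trans ?_
          congr 1
          exact Over.OverMorphism.ext (Over.w m₁)
      refine ⟨FibProd.homMk m₁ m₂ ?_, hfst⟩
      refine BasedBasic.hom_eq_of_comp_eq hf (x₀.map (Yoneda.toId Pz.obj.snd)) ?_ ?_
      · haveI : 𝒵.p.IsHomLift (𝟙 ((overCat U).p.obj Pz.obj.fst)) Pz.obj.iso.hom := Pz.property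
        haveI : 𝒵.p.IsHomLift (𝟙 ((overCat U).p.obj ga)) (ia.inv ≫ ib.hom) := P.property
        show 𝒵.p.map (x₀.map m₁ ≫ Pz.obj.iso.hom) = 𝒵.p.map ((ia.inv ≫ ib.hom) ≫ x₀.map m₂)
        rw [Functor.map_comp, Functor.map_comp, IsHomLift.fac' 𝒵.p (𝟙 ((overCat U).p.obj Pz.obj.fst)) Pz.obj.iso.hom,
          IsHomLift.fac' 𝒵.p (𝟙 ((overCat U).p.obj ga)) (ia.inv ≫ ib.hom),
          IsHomLift.fac' 𝒵.p m₁.left (x₀.map m₁), IsHomLift.fac' 𝒵.p m₂.left (x₀.map m₂)]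
        simp [m₁, m₂]
      · show (x₀.map m₁ ≫ Pz.obj.iso.hom) ≫ x₀.map _ = ((ia.inv ≫ ib.hom) ≫ x₀.map m₂) ≫ x₀.map _
        rw [Category.assoc, hfst, Category.assoc, Category.assoc, Category.assoc]
        refine congrArg (ia.inv ≫ ·) ((hc'.trans hib'.symm).trans ?_)
        refine congrArg (ib.hom ≫ ·) ?_
        refine Eq.trans ?_ (x₀.toFunctor.map_comp _ _)
        congr 1
        exact Over.OverMorphism.ext (Over.w m₂).symm
    obtain ⟨ma, hma⟩ := hm a rfl rfl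
    obtain ⟨mb, hmb⟩ := hm b hab.symm hab'.symm
    obtain ⟨J, _, C, hC⟩ := exists_overlap hfR z z2 hz2s hz2e P hPaff ma mb
    have hb : ∀ j, bmap 𝒵 (x₀.map (C.e j).hom.fst ≫ ia.inv) =
        (eqToHom (x₀.w_obj (C.E j).obj.fst)).left ≫ bmap (fp x₀ x₀) (C.e j) := fun j => by
      haveI := Yoneda.map_isHomLift x₀ (C.e j).hom.fst
      have h1 := IsHomLift.fac' 𝒵.p (C.e j).hom.fst.left (x₀.map (C.e j).hom.fst)
      have h2 := IsHomLift.fac' 𝒵.p (𝟙 (𝒵.p.obj o)) ia.inv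
      have : 𝒵.p.map (x₀.map (C.e j).hom.fst ≫ ia.inv) =
          eqToHom (x₀.w_obj (C.E j).obj.fst) ≫ (C.e j).hom.fst.left := by
        rw [Functor.map_comp, h1, h2]
        simp
      exact congrArg CommaMorphism.left this
    refine ⟨J, ⟨fun j => x₀.obj (C.E j).obj.fst, fun j => ?_,
      fun j => x₀.map (C.e j).hom.fst ≫ ia.inv, fun j => ?_, fun v => ?_⟩, fun j => ?_⟩
    · show IsAffine (𝒵.p.obj (x₀.obj (C.E j).obj.fst)).left
      rw [x₀.w_obj]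
      exact C.aff j
    · haveI : IsIso (eqToHom (x₀.w_obj (C.E j).obj.fst)).left :=
        inferInstanceAs (IsIso ((Over.forget S).map (eqToHom (x₀.w_obj (C.E j).obj.fst))))
      rw [hb]
      exact MorphismProperty.comp_mem @Flat _ _ inferInstance (C.flat j)
    · obtain ⟨j, y, hy⟩ := C.surj v
      refine ⟨j, (eqToHom (x₀.w_obj (C.E j).obj.fst).symm).left y, ?_⟩
      rw [hb]
      refine (Scheme.Hom.comp_apply _ _ _).symm.trans ?_
      rw [← Category.assoc, ← Over.comp_left, eqToHom_trans, eqToHom_refl]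
      exact hy
    · obtain ⟨d, hd₁, hd₂⟩ := hC j
      refine ⟨x₀.map d.hom.fst, ?_, ?_⟩
      · show x₀.map d.hom.fst ≫ x₀.map p2.hom.fst = (x₀.map (C.e j).hom.fst ≫ ia.inv) ≫ a
        rw [Category.assoc, ← hma, ← x₀.toFunctor.map_comp, ← x₀.toFunctor.map_comp]
        exact congrArg (fun m : C.E j ⟶ Pz => x₀.map m.hom.fst) hd₁
      · show x₀.map d.hom.fst ≫ x₀.map q2.hom.fst = (x₀.map (C.e j).hom.fst ≫ ia.inv) ≫ b
        rw [Category.assoc, ← hmb, ← x₀.toFunctor.map_comp, ← x₀.toFunctor.map_comp]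
        exact congrArg (fun m : C.E j ⟶ Pz => x₀.map m.hom.fst) hd₂

end Groth.Agent.H14.MultiExt
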