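import Groth.Agent.H14.MultiExt.Kappa
import Groth.Agent.H14.ModDesc.Push

/-!
The quasi-coherent module extending a functor of modules on affine objects.
-/

set_option autoImplicit false
set_option backward.isDefEq.respectTransparency false
set_option backward.isDefEq.respectTransparency.types false
set_option linter.style.haveILetI false

universe u

open CategoryTheory CategoryTheory.Limits AlgebraicGeometry Opposite TopologicalSpace
open StMod (sch bmap)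
open Groth.Agent.Lib.AlgStack
open Groth.Agent.H14.ModDesc
open Groth.Agent.H14.GenFam (bc_extend bc_ext bc_induction FlatFun Ext AlgB isBC_mk sl_ext sl_extend bmap_hom_comp Cover exists_obj exists_hom_over mapHom isBC_mapHom)

namespace Groth.Agent.H14.MultiExt

variable {S : Scheme.{u}} {𝒳 : AlgSt.Cat S}

/-- An affine object over an object, with a map to the chart. -/
structure CObj (C : MChart 𝒳) (y : 𝒳.obj) where
  /-- the object -/
  z : 𝒳.obj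
  /-- the map -/
  u : z ⟶ y
  /-- the index -/
  i : C.I
  /-- the map to the chart -/
  a : z ⟶ C.x i
  aff : IsAffine (sch 𝒳 z)

attribute [instance] CObj.aff

variable {C : MChart 𝒳} {y : 𝒳.obj}

/-- The morphisms of schemes under morphisms over the object. -/
def CRel {l' l : CObj C y} (g : sch 𝒳 l'.z ⟶ sch 𝒳 l.z) : Prop :=
  ∃ k : l'.z ⟶ l.z, bmap 𝒳 k = g ∧ k ≫ l.u = l'.u

theorem cRel_unique (hfib : FibCat.IsFibGrpd 𝒳.p) {l' l : CObj C y} {k k' : l'.z ⟶ l.z}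
    (hb : bmap 𝒳 k = bmap 𝒳 k') (h : k ≫ l.u = l'.u) (h' : k' ≫ l.u = l'.u) : k = k' :=
  BasedBasic.hom_eq_of_comp_eq hfib l.u (Over.OverMorphism.ext hb) (h.trans h'.symm)

variable (Φ : FlatFun 𝒳) (hfib : FibCat.IsFibGrpd 𝒳.p)

/-- The restriction of the extensions along a map over the object. -/
noncomputable def cRes {l' l : CObj C y} (k : l'.z ⟶ l.z) : MM Φ C l.a →+ MM Φ C l'.a :=
  (kappa hfib l'.a (k ≫ l.a)).toAddMonoidHom.comp (resM k rfl)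

theorem cRes_apply {l' l : CObj C y} (k : l'.z ⟶ l.z) (v : MM Φ C l.a) :
    cRes Φ hfib k v = kappa hfib l'.a (k ≫ l.a) (resM k rfl v) := rfl

theorem isBC_cRes {l' l : CObj C y} (k : l'.z ⟶ l.z) :
    IsBC (bmap 𝒳 k).appTop.hom (cRes Φ hfib (l' := l') (l := l) k) := by
  refine ((isBC_resM k rfl).comp (isBC_of_bijective (φ := RingHom.id _) Function.bijective_id
    (fun r m => (kappa hfib l'.a (k ≫ l.a)).map_smul r m) (bijective_kappa hfib _ _))).congr ?_ rfl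
  exact RingHom.id_comp _

theorem cRes_id (l : CObj C y) (v : MM Φ C l.a) : cRes Φ hfib (l' := l) (l := l) (𝟙 l.z) v = v := by
  have e : resM (𝟙 l.z) (Category.id_comp l.a) v = v := resM_id _ v
  rw [cRes_apply]
  revert e
  generalize (rfl : 𝟙 l.z ≫ l.a = 𝟙 l.z ≫ l.a) = h
  intro e
  have key : ∀ (a' : l.z ⟶ C.x l.i) (h' : 𝟙 l.z ≫ l.a = a') (e : l.a = a'),
      kappa hfib l.a a' (resM (𝟙 l.z) h' v) = v := fun a' h' e => by
    subst e
    rw [resM_id, kappa_self]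
  exact key _ h (Category.id_comp l.a).symm

theorem cRes_comp {l'' l' l : CObj C y} (k' : l''.z ⟶ l'.z) (k : l'.z ⟶ l.z) (v : MM Φ C l.a) :
    cRes Φ hfib (l' := l'') (l := l) (k' ≫ k) v = cRes Φ hfib k' (cRes Φ hfib (l' := l') (l := l) k v) := by
  rw [cRes_apply, cRes_apply, cRes_apply, resM_kappa hfib k' rfl (Category.assoc k' k l.a).symm,
    kappa_trans hfib]
  have key : ∀ (a' : l''.z ⟶ C.x l.i) (h' : (k' ≫ k) ≫ l.a = a') (a'' : l''.z ⟶ C.x l.i) (h'' : k' ≫ k ≫ l.a = a'')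
      (_ : a' = a''), kappa hfib l''.a a' (resM (k' ≫ k) h' v) = kappa hfib l''.a a'' (resM k' h'' (resM k rfl v)) :=
    fun a' h' a'' h'' e => by
      subst e
      rw [resM_comp k' k rfl h'' h']
  exact key _ _ _ _ rfl

/-- The datum over an object. -/
noncomputable def cDatum (y : 𝒳.obj) : Datum.{u, u + 1} (sch 𝒳 y) where
  Obj := CObj C y
  Z l := sch 𝒳 l.z
  isAffine l := l.aff
  b l := bmap 𝒳 l.u
  Rel := CRel
  rel_over := fun {l' l g} hg => by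
    obtain ⟨k, rfl, h⟩ := hg
    rw [← StMod.bmap_comp, h]
  rel_id l := ⟨𝟙 l.z, StMod.bmap_id _, Category.id_comp _⟩
  rel_comp := fun {l'' l' l g' g} hg' hg => by
    obtain ⟨k', rfl, h'⟩ := hg'
    obtain ⟨k, rfl, h⟩ := hg
    exact ⟨k' ≫ k, StMod.bmap_comp _ _, by rw [Category.assoc, h, h']⟩
  M l := MM Φ C l.a
  res g hg := cRes Φ hfib hg.choose
  res_id l x := by
    have hg : CRel (𝟙 (sch 𝒳 l.z)) (l' := l) (l := l) := ⟨𝟙 l.z, StMod.bmap_id _, Category.id_comp _⟩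
    have e : hg.choose = 𝟙 l.z := cRel_unique hfib (hg.choose_spec.1.trans (StMod.bmap_id _).symm)
      hg.choose_spec.2 (Category.id_comp _)
    rw [e, cRes_id]
  res_comp := fun {l'' l' l g' g} hg' hg x => by
    have hgg : CRel (g' ≫ g) (l' := l'') (l := l) := by
      obtain ⟨k', rfl, h'⟩ := hg'
      obtain ⟨k, rfl, h⟩ := hg
      exact ⟨k' ≫ k, StMod.bmap_comp _ _, by rw [Category.assoc, h, h']⟩
    have e : hgg.choose = hg'.choose ≫ hg.choose := cRel_unique hfib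
      (by rw [hgg.choose_spec.1, StMod.bmap_comp, hg'.choose_spec.1, hg.choose_spec.1])
      hgg.choose_spec.2 (by rw [Category.assoc, hg.choose_spec.2, hg'.choose_spec.2])
    show cRes Φ hfib hgg.choose x = _
    rw [e, cRes_comp]
  bc := fun {l' l g} hg => (isBC_cRes Φ hfib hg.choose).congr (by rw [hg.choose_spec.1]) rfl
  pull l P _ p := by
    obtain ⟨z', φ, e, hφ⟩ := exists_obj hfib l.z p
    exact ⟨⟨z', φ ≫ l.u, l.i, φ ≫ l.a, IsAffine.of_isIso e.hom⟩, e, φ, hφ, rfl⟩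
  factor := fun {E l' l g₁ g₂ g} h₁ h₂ hg => by
    obtain ⟨k₁, rfl, e₁⟩ := h₁
    obtain ⟨k₂, rfl, e₂⟩ := h₂
    obtain ⟨k, hk, hk₂⟩ := exists_hom_over hfib k₁ k₂ g hg
    exact ⟨k, hk, by rw [← e₂, ← Category.assoc, hk₂, e₁]⟩
  refine' l₁ l₂ P _ p₁ p₂ hp := by
    obtain ⟨z', φ, e, hφ⟩ := exists_obj hfib l₁.z p₁
    obtain ⟨k, hk, hk₂⟩ := exists_hom_over hfib (φ ≫ l₁.u) l₂.u (e.hom ≫ p₂) (by
      rw [StMod.bmap_comp, hφ, Category.assoc, Category.assoc, hp])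
    exact ⟨1, fun _ => ⟨z', φ ≫ l₁.u, l₁.i, φ ≫ l₁.a, IsAffine.of_isIso e.hom⟩, fun _ => e.hom,
      fun _ => inferInstanceAs (Flat e.hom), fun x => ⟨0, e.inv x, by
        rw [← Scheme.Hom.comp_apply, Iso.inv_hom_id]; rfl⟩,
      fun _ => ⟨⟨φ, hφ, rfl⟩, k, hk, hk₂⟩⟩
  cover := fun {V} hV => by
    obtain ⟨v, φ, e, hφ⟩ := exists_obj hfib y V.ι
    have : IsAffine V.toScheme := hV
    have hv : IsAffine (sch 𝒳 v) := IsAffine.of_isIso e.hom
    obtain ⟨n, D, hD⟩ := C.cover v hv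
    refine ⟨n, fun j => ⟨D.E j, D.e j ≫ φ, (hD j).choose, (hD j).choose_spec.some, D.aff j⟩, fun j => bmap 𝒳 (D.e j) ≫ e.hom,
      fun j => ?_, fun j => ?_, fun x => ?_⟩
    · show (bmap 𝒳 (D.e j) ≫ e.hom) ≫ V.ι = bmap 𝒳 (D.e j ≫ φ)
      rw [StMod.bmap_comp, hφ, Category.assoc]
    · have := D.flat j
      infer_instance
    · obtain ⟨j, t, ht⟩ := D.surj (e.inv x)
      refine ⟨j, t, ?_⟩
      rw [Scheme.Hom.comp_apply, ht, ← Scheme.Hom.comp_apply, Iso.inv_hom_id]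
      rfl

/-- Transport of the objects along a morphism. -/
noncomputable def cPushMap {y' y : 𝒳.obj} (h : y' ⟶ y) {g : sch 𝒳 y' ⟶ sch 𝒳 y} (hg : bmap 𝒳 h = g) :
    Datum.Map (cDatum (C := C) Φ hfib y') (cDatum (C := C) Φ hfib y) g where
  obj l := ⟨l.z, l.u ≫ h, l.i, l.a, l.aff⟩
  e l := Iso.refl _
  over l := by
    show 𝟙 _ ≫ bmap 𝒳 (l.u ≫ h) = bmap 𝒳 l.u ≫ g
    rw [Category.id_comp, StMod.bmap_comp, hg]
  φ l := AddMonoidHom.id _
  sl l r m := by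
    have e : (𝟙 (sch 𝒳 l.z) : sch 𝒳 l.z ⟶ sch 𝒳 l.z).appTop.hom r = r := by
      rw [Scheme.Hom.id_appTop]
      rfl
    show (show Γ(sch 𝒳 l.z, ⊤) from r) • (show MM Φ C l.a from m) =
      (𝟙 (sch 𝒳 l.z) : sch 𝒳 l.z ⟶ sch 𝒳 l.z).appTop.hom r • (show MM Φ C l.a from m)
    rw [e]
  rel := fun {l₁ l₂ q} hq => by
    obtain ⟨k, hb, hu⟩ := hq
    refine ⟨k, ?_, ?_⟩
    · show bmap 𝒳 k = 𝟙 _ ≫ q ≫ 𝟙 _
      rw [Category.id_comp]
      exact hb.trans (Category.comp_id q).symm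
    · show k ≫ l₂.u ≫ h = l₁.u ≫ h
      rw [← Category.assoc, hu]
  comm := fun {l₁ l₂ q} hq x => by
    have hq' : CRel (C := C) (y := y) (l' := ⟨l₁.z, l₁.u ≫ h, l₁.i, l₁.a, l₁.aff⟩) (l := ⟨l₂.z, l₂.u ≫ h, l₂.i, l₂.a, l₂.aff⟩)
        (𝟙 _ ≫ q ≫ 𝟙 _) := by
      obtain ⟨k, hb, hu⟩ := hq
      exact ⟨k, by rw [Category.id_comp, hb]; exact (Category.comp_id q).symm, by
        show k ≫ l₂.u ≫ h = l₁.u ≫ h
        rw [← Category.assoc, hu]⟩
    have e : hq.choose = hq'.choose := cRel_unique hfib (l' := ⟨l₁.z, l₁.u ≫ h, l₁.i, l₁.a, l₁.aff⟩)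
      (l := ⟨l₂.z, l₂.u ≫ h, l₂.i, l₂.a, l₂.aff⟩)
      (by rw [hq.choose_spec.1, hq'.choose_spec.1, Category.id_comp]; exact (Category.comp_id q).symm)
      (by
        show hq.choose ≫ l₂.u ≫ h = l₁.u ≫ h
        rw [← Category.assoc, hq.choose_spec.2])
      hq'.choose_spec.2
    show cRes Φ hfib (l' := l₁) (l := l₂) hq.choose x =
      cRes Φ hfib (l' := ⟨l₁.z, l₁.u ≫ h, l₁.i, l₁.a, l₁.aff⟩) (l := ⟨l₂.z, l₂.u ≫ h, l₂.i, l₂.a, l₂.aff⟩) hq'.choose x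
    rw [← e]
    rfl

theorem cObj_ext {y : 𝒳.obj} {z : 𝒳.obj} {u u' : z ⟶ y} (h : u = u') {ix : C.I} (a : z ⟶ C.x ix) (i : IsAffine (sch 𝒳 z))
    {W : Scheme.{u}} {k : W ⟶ sch 𝒳 y} (s : (cDatum (C := C) Φ hfib y).Fam k) {c c' : sch 𝒳 z ⟶ W} (hcc : c = c')
    (hc : c ≫ k = bmap 𝒳 u) (hc' : c' ≫ k = bmap 𝒳 u') :
    (s.1 (⟨z, u, ix, a, i⟩ : CObj C y) ⟨c, hc⟩ : MM Φ C a) = s.1 (⟨z, u', ix, a, i⟩ : CObj C y) ⟨c', hc'⟩ := by
  subst h hcc
  rfl

/-- The extension. -/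
noncomputable def extMod : StMod.Mod 𝒳 where
  obj y := (cDatum (C := C) Φ hfib y).descMod
  map h _ hg := Datum.descMap (cPushMap Φ hfib h hg)
  map_id y := by
    apply Scheme.Modules.hom_ext
    intro U
    ext t
    apply ((cDatum (C := C) Φ hfib y).secEquiv U).injective
    refine (Datum.secEquiv_descMap (cPushMap Φ hfib (𝟙 y) (StMod.bmap_id y)) U t).trans
      (Datum.fam_ext fun l c hc => ?_)
    refine cObj_ext Φ hfib (Category.comp_id _) l.a l.aff _ ?_ _ hc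
    show 𝟙 _ ≫ c ≫ (𝟙 (sch 𝒳 y) : sch 𝒳 y ⟶ sch 𝒳 y).resLE U U le_rfl = c
    rw [Category.id_comp, ← cancel_mono U.ι, Category.assoc, Scheme.Hom.resLE_comp_ι, Category.comp_id]
  map_comp := fun {y'' y' y} ψ φ k g hk hg => by
    apply Scheme.Modules.hom_ext
    intro U
    ext t
    apply ((cDatum (C := C) Φ hfib y'').secEquiv ((k ≫ g) ⁻¹ᵁ U)).injective
    refine (Datum.secEquiv_descMap (cPushMap Φ hfib (ψ ≫ φ) _) U t).trans
      (Eq.trans ?_ (Datum.secEquiv_descMap (cPushMap Φ hfib ψ hk) (g ⁻¹ᵁ U) _).symm)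
    erw [Datum.secEquiv_descMap (cPushMap Φ hfib φ hg) U t]
    refine Datum.fam_ext fun l c hc => ?_
    refine cObj_ext Φ hfib (Category.assoc _ _ _).symm l.a l.aff _ ?_ _ _
    show 𝟙 _ ≫ c ≫ (k ≫ g).resLE U ((k ≫ g) ⁻¹ᵁ U) le_rfl =
      𝟙 _ ≫ (𝟙 _ ≫ c ≫ k.resLE (g ⁻¹ᵁ U) ((k ≫ g) ⁻¹ᵁ U) le_rfl) ≫ g.resLE U (g ⁻¹ᵁ U) le_rfl
    simp only [Category.id_comp]
    rw [← cancel_mono U.ι]
    simp only [Category.assoc, Scheme.Hom.resLE_comp_ι, Scheme.Hom.resLE_comp_ι_assoc]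

/-- The extension as a quasi-coherent module. -/
noncomputable def extQ : StMod.QCoh 𝒳 :=
  ⟨extMod (C := C) Φ hfib, fun _ _ h _ hg => Datum.isIso_adjoint_descMap (cPushMap Φ hfib h hg)
    fun _ => Function.bijective_id, fun _ => Datum.isQuasicoherent_descMod _⟩

end Groth.Agent.H14.MultiExt
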