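import Groth.Agent.H14.MultiExt.ExtDatum
import Groth.Agent.H14.GenFam.ExtEval

/-!
The extension evaluated on objects flat over the chart.
-/

set_option autoImplicit false
set_option backward.isDefEq.respectTransparency false
set_option backward.isDefEq.respectTransparency.types false
set_option linter.style.haveILetI false

universe u

open CategoryTheory CategoryTheory.Limits AlgebraicGeometry Opposite TopologicalSpace
open StMod (sch bmap)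
open Groth.Agent.Lib.AlgStack
open Groth.Agent.H14.ModDesc
open Groth.Agent.H14.GenFam (topLift topLift_ι topLift_toGlobal bc_extend bc_ext bc_induction FlatFun Ext AlgB isBC_mk sl_ext sl_extend bmap_hom_comp Cover exists_obj exists_hom_over mapHom isBC_mapHom)

namespace Groth.Agent.H14.MultiExt

variable {S : Scheme.{u}} {𝒳 : AlgSt.Cat S} {C : MChart 𝒳} (Φ : FlatFun 𝒳) (hfib : FibCat.IsFibGrpd 𝒳.p)

/-- The value of the extension at an affine object with a map to the chart. -/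
noncomputable def extEv (o : 𝒳.obj) [ho : IsAffine (sch 𝒳 o)] {ix : C.I} (a : o ⟶ C.x ix) :
    Γ((extQ (C := C) Φ hfib).obj.obj o, ⊤) →+ MM Φ C a where
  toFun s := ((cDatum (C := C) Φ hfib o).secEquiv ⊤ s).1 ⟨o, 𝟙 o, ix, a, ho⟩
    ⟨topLift _, (topLift_ι _).trans (StMod.bmap_id o).symm⟩
  map_zero' := by
    rw [map_zero]
    rfl
  map_add' s t := by
    rw [map_add]
    rfl

theorem extEv_smul (o : 𝒳.obj) [IsAffine (sch 𝒳 o)] {ix : C.I} (a : o ⟶ C.x ix) (r : Γ(sch 𝒳 o, ⊤))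
    (s : Γ((extQ (C := C) Φ hfib).obj.obj o, ⊤)) : extEv Φ hfib o a (r • s) = r • extEv Φ hfib o a s := by
  show ((cDatum (C := C) Φ hfib o).secEquiv ⊤ (r • s)).1 _ _ = _
  rw [map_smul]
  show (topLift (sch 𝒳 o)).appTop.hom (Datum.toGlobal (⊤ : (sch 𝒳 o).Opens) r) • extEv Φ hfib o a s = _
  rw [topLift_toGlobal]

theorem bijective_extEv (o : 𝒳.obj) [ho : IsAffine (sch 𝒳 o)] {ix : C.I} (a : o ⟶ C.x ix) :
    Function.Bijective (extEv Φ hfib o a) := by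
  have : IsAffine (⊤ : (sch 𝒳 o).Opens).toScheme := isAffineOpen_top _
  obtain ⟨n, ⟨K⟩⟩ := Datum.exists_wcov (D := cDatum (C := C) Φ hfib o) (isAffineOpen_top (sch 𝒳 o))
  have : IsIso (topLift (sch 𝒳 o)) := by
    refine ⟨(⊤ : (sch 𝒳 o).Opens).ι, topLift_ι _, ?_⟩
    rw [← cancel_mono (⊤ : (sch 𝒳 o).Opens).ι, Category.assoc, topLift_ι, Category.comp_id, Category.id_comp]
  have hb := (K.isBC_ev (⟨o, 𝟙 o, ix, a, ho⟩ : CObj C o) (topLift _) ((topLift_ι _).trans (StMod.bmap_id o).symm)).bijective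
    (bijective_appTop (topLift (sch 𝒳 o)))
  exact hb.comp ((cDatum (C := C) Φ hfib o).secEquiv ⊤).bijective

set_option maxHeartbeats 800000 in
theorem extEv_mapTop {o' o : 𝒳.obj} [ho' : IsAffine (sch 𝒳 o')] [ho : IsAffine (sch 𝒳 o)] (e : o' ⟶ o)
    {ix : C.I} (a : o ⟶ C.x ix) {ix' : C.I} (a' : o' ⟶ C.x ix') (s : Γ((extQ (C := C) Φ hfib).obj.obj o, ⊤)) :
    extEv Φ hfib o' a' ((extQ (C := C) Φ hfib).obj.mapTop e s) =
      kappa hfib a' (e ≫ a) (resM e rfl (extEv Φ hfib o a s)) := by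
  let D := cDatum (C := C) Φ hfib o
  let t := D.secEquiv ⊤ s
  let l₁ : CObj C o := ⟨o', 𝟙 o' ≫ e, ix', a', ho'⟩
  let l : CObj C o := ⟨o, 𝟙 o, ix, a, ho⟩
  have hg : D.Rel (l' := l₁) (l := l) (bmap 𝒳 e) := ⟨e, rfl, (Category.comp_id e).trans (Category.id_comp e).symm⟩
  have he : hg.choose = e := cRel_unique hfib (l' := l₁) (l := l) hg.choose_spec.1 hg.choose_spec.2
    ((Category.comp_id e).trans (Category.id_comp e).symm)
  have hc : (bmap 𝒳 e ≫ topLift (sch 𝒳 o)) ≫ (⊤ : (sch 𝒳 o).Opens).ι = D.b l₁ := by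
    show _ = bmap 𝒳 (𝟙 o' ≫ e)
    rw [Category.assoc, topLift_ι, Category.comp_id, Category.id_comp]
  have hl : topLift (sch 𝒳 o) ≫ (⊤ : (sch 𝒳 o).Opens).ι = D.b l := (topLift_ι _).trans (StMod.bmap_id o).symm
  have h₁ : D.res (l' := l₁) (l := l) (bmap 𝒳 e) hg (t.1 l ⟨topLift (sch 𝒳 o), hl⟩) =
      t.1 l₁ ⟨bmap 𝒳 e ≫ topLift (sch 𝒳 o), hc⟩ :=
    t.2 (l' := l₁) (l := l) (bmap 𝒳 e) hg (topLift (sch 𝒳 o)) hl
  refine Eq.trans ?_ (Eq.trans h₁.symm ?_)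
  · show ((cDatum (C := C) Φ hfib o').secEquiv (bmap 𝒳 e ⁻¹ᵁ ⊤)
      ((Datum.descMap (cPushMap Φ hfib e rfl)).app ⊤ s)).1 ⟨o', 𝟙 o', ix', a', ho'⟩ ⟨topLift _, _⟩ = _
    rw [Datum.secEquiv_descMap]
    refine Datum.fam_congr (D := D) t ?_ _ _
    rw [← cancel_mono (⊤ : (sch 𝒳 o).Opens).ι, Category.assoc, Category.assoc, Scheme.Hom.resLE_comp_ι,
      Category.assoc, topLift_ι, Category.comp_id]
    show 𝟙 _ ≫ topLift (sch 𝒳 o') ≫ (⊤ : (sch 𝒳 o').Opens).ι ≫ bmap 𝒳 e = bmap 𝒳 e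
    rw [reassoc_of% (topLift_ι (sch 𝒳 o')), Category.id_comp]
  · show cRes Φ hfib (l' := l₁) (l := l) hg.choose _ = _
    rw [he]
    rfl

/-- The comparison along a flat map to the chart. -/
theorem bijective_psi {o : 𝒳.obj} [IsAffine (sch 𝒳 o)] {ix : C.I} {a : o ⟶ C.x ix} (h : Flat (bmap 𝒳 a)) :
    Function.Bijective (psi (Φ := Φ) h (𝟙 o) (Category.id_comp a)) := by
  refine (IsBC.of_comp (Φ.bc a h) (isSL_psi h (𝟙 o) (Category.id_comp a))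
    ((isBC_mk (bmap 𝒳 a).appTop.hom _).congr ?_ ?_)).bijective ?_
  · rw [← bmap_hom_comp, Category.id_comp]
  · exact AddMonoidHom.ext fun m => (psi_res h (𝟙 o) (Category.id_comp a) m).symm
  · rw [StMod.bmap_id, Scheme.Hom.id_appTop]
    exact Function.bijective_id

theorem exists_chi {o : 𝒳.obj} [IsAffine (sch 𝒳 o)] {ix : C.I} (a : o ⟶ C.x ix) :
    ∃ F : MM Φ C a →ₗ[Γ(sch 𝒳 o, ⊤)] Φ.obj o, ∀ m, F (unitM Φ C a m) = Φ.res a m :=
  bc_extend (isBC_mk _ _) (Φ.res a) (Φ.sl a)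

/-- The map to the module of an object with a map to the chart. -/
noncomputable def chi {o : 𝒳.obj} [IsAffine (sch 𝒳 o)] {ix : C.I} (a : o ⟶ C.x ix) :
    MM Φ C a →ₗ[Γ(sch 𝒳 o, ⊤)] Φ.obj o :=
  (exists_chi Φ a).choose

theorem chi_unit {o : 𝒳.obj} [IsAffine (sch 𝒳 o)] {ix : C.I} (a : o ⟶ C.x ix) (m : Φ.obj (C.x ix)) :
    chi Φ a (unitM Φ C a m) = Φ.res a m :=
  (exists_chi Φ a).choose_spec m

theorem res_chi {o' o : 𝒳.obj} [IsAffine (sch 𝒳 o')] [IsAffine (sch 𝒳 o)] (e : o' ⟶ o) {ix : C.I} {a : o ⟶ C.x ix}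
    {a' : o' ⟶ C.x ix} (h : e ≫ a = a') (v : MM Φ C a) : Φ.res e (chi Φ a v) = chi Φ a' (resM e h v) := by
  refine DFunLike.congr_fun (sl_ext (isBC_mk _ (Φ.obj (C.x ix))) (ψ := (bmap 𝒳 e).appTop.hom)
    (F := (Φ.res e).comp (chi Φ a).toAddMonoidHom) (G := (chi Φ a').toAddMonoidHom.comp (resM e h))
    (fun r m => ?_) (fun r m => ?_) fun m => ?_) v
  · show Φ.res e (chi Φ a (r • m)) = _
    rw [map_smul, Φ.sl e]
    rfl
  · show chi Φ a' (resM e h (r • m)) = _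
    rw [isSL_resM e h, map_smul]
    rfl
  · show Φ.res e (chi Φ a (unitM Φ C a m)) = chi Φ a' (resM e h (unitM Φ C a m))
    rw [chi_unit, resM_unit, chi_unit, ← Φ.res_comp, h]

theorem chi_psi {d₀ : 𝒳.obj} [IsAffine (sch 𝒳 d₀)] {ix : C.I} {P : d₀ ⟶ C.x ix} (hP : Flat (bmap 𝒳 P)) {d : 𝒳.obj}
    [IsAffine (sch 𝒳 d)] (f : d ⟶ d₀) {a' : d ⟶ C.x ix} (h : f ≫ P = a') (t : Φ.obj d₀) :
    chi Φ a' (psi hP f h t) = Φ.res f t := by
  refine DFunLike.congr_fun (sl_ext (Φ.bc P hP) (ψ := (bmap 𝒳 f).appTop.hom)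
    (F := (chi Φ a').toAddMonoidHom.comp (psi hP f h)) (G := Φ.res f)
    (fun r m => ?_) (Φ.sl f) fun m => ?_) t
  · show chi Φ a' (psi hP f h (r • m)) = _
    rw [isSL_psi hP f h, map_smul]
    rfl
  · show chi Φ a' (psi hP f h (Φ.res P m)) = _
    rw [psi_res, chi_unit, ← Φ.res_comp, h]

theorem eqΦ {o : 𝒳.obj} [IsAffine (sch 𝒳 o)] {J : Type*} (D : Cover o J) {v v' : Φ.obj o}
    (h : ∀ j, haveI := D.aff j; Φ.res (D.e j) v = Φ.res (D.e j) v') : v = v' := by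
  let : ∀ j, Algebra Γ(sch 𝒳 o, ⊤) Γ(sch 𝒳 (D.E j), ⊤) := fun j => (bmap 𝒳 (D.e j)).appTop.hom.toAlgebra
  have : ∀ j, IsAffine (sch 𝒳 (D.E j)) := D.aff
  have : ∀ j, Module.Flat Γ(sch 𝒳 o, ⊤) Γ(sch 𝒳 (D.E j), ⊤) := fun j =>
    have := D.flat j
    flat_appTop (bmap 𝒳 (D.e j))
  rw [← sub_eq_zero]
  refine eq_zero_of_isBC (fun j => Γ(sch 𝒳 (D.E j), ⊤))
    (jointlySurj_appTop (fun j => bmap 𝒳 (D.e j)) (fun j => rfl) D.surj)
    (fun j => Φ.res (D.e j)) (fun j => Φ.bc (D.e j) (D.flat j)) _ fun j => ?_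
  rw [map_sub, sub_eq_zero]
  exact h j

theorem chi_kappa {o : 𝒳.obj} [ho : IsAffine (sch 𝒳 o)] {ix iy : C.I} (a : o ⟶ C.x ix) (b : o ⟶ C.x iy) (v : MM Φ C b) :
    chi Φ a (kappa hfib a b v) = chi Φ b v := by
  refine LinearMap.congr_fun (bc_ext (isBC_mk (bmap 𝒳 b).appTop.hom (Φ.obj (C.x iy)))
    (F := (chi Φ a).comp (kappa hfib a b)) (s := Set.univ) Submodule.span_univ fun s _ => ?_) v
  show chi Φ a (kappa hfib a b (unitM Φ C b s)) = chi Φ b (unitM Φ C b s)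
  rw [kappa_unit, chi_unit]
  obtain ⟨J, _, D, hD⟩ := C.overlap o ho a b
  refine eqΦ Φ D fun j => ?_
  have := D.aff j
  obtain ⟨r, c, hp, hq⟩ := hD j
  rw [res_chi Φ (D.e j) rfl, resM_kappaVal hfib a b s _ c hp hq, kv, chi_psi Φ (C.flat r) c hp, ← Φ.res_comp,
    ← Φ.res_comp, hq]

/-- The map from the extension to the given modules. -/
noncomputable def phiA (o : 𝒳.obj) [IsAffine (sch 𝒳 o)] {ix : C.I} (a : o ⟶ C.x ix) :
    Γ((extQ (C := C) Φ hfib).obj.obj o, ⊤) →ₗ[Γ(sch 𝒳 o, ⊤)] Φ.obj o :=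
  { toFun := fun s => chi Φ a (extEv Φ hfib o a s)
    map_add' := fun s t => (congrArg (chi Φ a) (map_add (extEv Φ hfib o a) s t)).trans (map_add (chi Φ a) _ _)
    map_smul' := fun r s => (congrArg (chi Φ a) (extEv_smul Φ hfib o a r s)).trans (map_smul (chi Φ a) r _) }

theorem phiA_apply (o : 𝒳.obj) [IsAffine (sch 𝒳 o)] {ix : C.I} (a : o ⟶ C.x ix) (s : Γ((extQ (C := C) Φ hfib).obj.obj o, ⊤)) :
    phiA Φ hfib o a s = chi Φ a (extEv Φ hfib o a s) := rfl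

theorem phiA_natural {o' o : 𝒳.obj} [IsAffine (sch 𝒳 o')] [IsAffine (sch 𝒳 o)] (e : o' ⟶ o)
    {ix' : C.I} (a' : o' ⟶ C.x ix') {ix : C.I} (a : o ⟶ C.x ix) (s : Γ((extQ (C := C) Φ hfib).obj.obj o, ⊤)) :
    phiA Φ hfib o' a' ((extQ (C := C) Φ hfib).obj.mapTop e s) = Φ.res e (phiA Φ hfib o a s) := by
  rw [phiA_apply, phiA_apply, extEv_mapTop Φ hfib e a, chi_kappa, ← res_chi Φ e rfl]

/-- Objects with a map to a member of the chart. -/
def MChart.Has (C : MChart 𝒳) (o : 𝒳.obj) : Prop :=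
  ∃ i, Nonempty (o ⟶ C.x i)

theorem MChart.Has.of_map (C : MChart 𝒳) {o i} (a : o ⟶ C.x i) : C.Has o := ⟨i, ⟨a⟩⟩

theorem MChart.Has.mono {C : MChart 𝒳} {o' o : 𝒳.obj} (e : o' ⟶ o) (h : C.Has o) : C.Has o' :=
  ⟨h.choose, ⟨e ≫ h.choose_spec.some⟩⟩

include hfib in
/-- Extension of a functor of modules on affine objects to a quasi-coherent module. -/
theorem exists_ext (C : MChart 𝒳) : ∃ G : StMod.QCoh 𝒳,
    ∃ φ : ∀ (o : 𝒳.obj) [IsAffine (sch 𝒳 o)], C.Has o →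
      (Γ(G.obj.obj o, ⊤) →ₗ[Γ(sch 𝒳 o, ⊤)] Φ.obj o),
      (∀ (o : 𝒳.obj) [IsAffine (sch 𝒳 o)] (h : C.Has o) {i : C.I} (a : o ⟶ C.x i), Flat (bmap 𝒳 a) →
        Function.Bijective (φ o h)) ∧
      ∀ {o' o : 𝒳.obj} [IsAffine (sch 𝒳 o')] [IsAffine (sch 𝒳 o)] (e : o' ⟶ o)
        (h' : C.Has o') (h : C.Has o) (s : Γ(G.obj.obj o, ⊤)),
        φ o' h' (G.obj.mapTop e s) = Φ.res e (φ o h s) := by
  refine ⟨extQ (C := C) Φ hfib, fun o _ h => phiA Φ hfib o h.choose_spec.some, fun o _ h i a ha => ?_,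
    fun e h' h s => phiA_natural Φ hfib e _ _ s⟩
  have heq : phiA Φ hfib o h.choose_spec.some = phiA Φ hfib o a := LinearMap.ext fun s => by
    have := phiA_natural Φ hfib (𝟙 o) h.choose_spec.some a s
    rwa [StMod.Mod.mapTop_id, Φ.res_id] at this
  show Function.Bijective (phiA Φ hfib o h.choose_spec.some)
  rw [heq]
  show Function.Bijective (fun s => chi Φ a (extEv Φ hfib o a s))
  refine Function.Bijective.comp (g := chi Φ a) ?_ (bijective_extEv Φ hfib o a)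
  refine Function.Bijective.of_comp_iff (chi Φ a) (bijective_psi Φ ha) |>.1 ?_
  have : (chi Φ a) ∘ psi ha (𝟙 o) (Category.id_comp a) = id := funext fun t =>
    (chi_psi Φ ha (𝟙 o) (Category.id_comp a) t).trans (Φ.res_id o t)
  rw [this]
  exact Function.bijective_id

end Groth.Agent.H14.MultiExt
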