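import Groth.Agent.H14.MultiExt.Psi

/-!
The comparison of the extensions along two maps to the chart.
-/

set_option autoImplicit false
set_option backward.isDefEq.respectTransparency false
set_option backward.isDefEq.respectTransparency.types false
set_option linter.style.haveILetI false

universe u

open CategoryTheory CategoryTheory.Limits AlgebraicGeometry Opposite TensorProduct
open StMod (sch bmap)
open Groth.Agent.Lib.AlgStack
open Groth.Agent.H14.ModDesc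
open Groth.Agent.H14.GenFam (bc_extend bc_ext bc_induction FlatFun Ext AlgB isBC_mk sl_ext sl_extend bmap_hom_comp Cover exists_obj exists_hom_over)

namespace Groth.Agent.H14.MultiExt

variable {S : Scheme.{u}} {𝒳 : AlgSt.Cat S} {Φ : FlatFun 𝒳} {C : MChart 𝒳}

variable (Φ) in
/-- The value through a map to the relation. -/
noncomputable def kv {i j : C.I} {r : C.R i j} {d : 𝒳.obj} (c : d ⟶ C.w r) {a' : d ⟶ C.x i} (h : c ≫ C.p r = a')
    (s : Φ.obj (C.x j)) : MM Φ C a' :=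
  psi (C.flat r) c h (Φ.res (C.q r) s)

theorem resM_kv {i j : C.I} {r : C.R i j} {d' d : 𝒳.obj} (g : d' ⟶ d) (c : d ⟶ C.w r) {a : d ⟶ C.x i}
    {a' : d' ⟶ C.x i} (h : c ≫ C.p r = a) (hg : g ≫ a = a') (h' : (g ≫ c) ≫ C.p r = a') (s : Φ.obj (C.x j)) :
    resM g hg (kv Φ c h s) = kv Φ (g ≫ c) h' s :=
  resM_psi _ g c h hg h' _

theorem kv_congr {i j : C.I} {r : C.R i j} {d : 𝒳.obj} {c c' : d ⟶ C.w r} (e : c = c') {a' : d ⟶ C.x i}
    (h : c ≫ C.p r = a') (h' : c' ≫ C.p r = a') (s : Φ.obj (C.x j)) : kv Φ c h s = kv Φ c' h' s := by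
  subst e
  rfl

/-- The value does not depend on the map to the relation. -/
theorem kv_eq {i j : C.I} {r r' : C.R i j} {d : 𝒳.obj} [hd : IsAffine (sch 𝒳 d)] (c : d ⟶ C.w r) (c' : d ⟶ C.w r')
    {a' : d ⟶ C.x i} (h : c ≫ C.p r = a') (h' : c' ≫ C.p r' = a') (hq : c ≫ C.q r = c' ≫ C.q r')
    (s : Φ.obj (C.x j)) : kv Φ c h s = kv Φ c' h' s := by
  obtain ⟨J, D, hD⟩ := C.overlap2 d hd c c' (h.trans h'.symm) hq
  refine eqM D fun l => ?_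
  obtain ⟨d₂, _, k, k', hp2, hq2, hflat, c₂, hk, hk'⟩ := hD l
  rw [resM_kv (D.e l) c h rfl (by rw [Category.assoc, h]), resM_kv (D.e l) c' h' rfl (by rw [Category.assoc, h'])]
  have e₁ : (c₂ ≫ k) ≫ C.p r = D.e l ≫ a' := by rw [hk, Category.assoc, h]
  have e₂ : (c₂ ≫ k') ≫ C.p r' = D.e l ≫ a' := by rw [hk', Category.assoc, h']
  rw [kv_congr hk.symm _ e₁, kv_congr hk'.symm _ e₂]
  have e₃ : c₂ ≫ (k ≫ C.p r) = D.e l ≫ a' := by rw [← Category.assoc, e₁]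
  have k₁ := psi_comp (Φ := Φ) (C.flat r) k (P₁ := k ≫ C.p r) rfl hflat c₂ e₃ e₁ (Φ.res (C.q r) s)
  have k₂ := psi_comp (Φ := Φ) (C.flat r') k' (P₁ := k ≫ C.p r) hp2.symm hflat c₂ e₃ e₂ (Φ.res (C.q r') s)
  refine k₁.symm.trans (Eq.trans ?_ k₂)
  rw [← Φ.res_comp, ← Φ.res_comp, hq2]

variable (hfib : FibCat.IsFibGrpd 𝒳.p)

include hfib in
theorem exists_kappaVal {z : 𝒳.obj} [hz : IsAffine (sch 𝒳 z)] {ia ib : C.I} (a : z ⟶ C.x ia) (b : z ⟶ C.x ib) (s : Φ.obj (C.x ib)) :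
    ∃ v : MM Φ C a, ∀ (d : 𝒳.obj) [IsAffine (sch 𝒳 d)] (e : d ⟶ z) (r : C.R ia ib) (c : d ⟶ C.w r)
      (hp : c ≫ C.p r = e ≫ a), c ≫ C.q r = e ≫ b → resM e rfl v = kv Φ c hp s := by
  obtain ⟨J, _, D, hD⟩ := C.overlap z hz a b
  choose rr c hcp hcq using hD
  obtain ⟨v, hv⟩ := exists_glueM hfib D (fun j => kv Φ (c j) (hcp j) s) fun i j d hd σ τ a' h₁ h₂ e => by
    rw [resM_kv σ (c i) (hcp i) h₁ (by rw [Category.assoc, hcp, h₁]),
      resM_kv τ (c j) (hcp j) h₂ (by rw [Category.assoc, hcp, h₂])]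
    exact kv_eq _ _ _ _ (by rw [Category.assoc, Category.assoc, hcq, hcq, ← Category.assoc, e, Category.assoc]) s
  refine ⟨v, fun d _ e r' c' hp hq => ?_⟩
  obtain ⟨D', f, hf⟩ := D.exists_pullback hfib e
  refine eqM D' fun j => ?_
  have := D'.aff j
  have he : (D'.e j ≫ e) ≫ a = D'.e j ≫ e ≫ a := Category.assoc _ _ _
  have hfj : f j ≫ D.e j ≫ a = D'.e j ≫ e ≫ a := by rw [← Category.assoc, hf, Category.assoc]
  rw [← resM_comp (D'.e j) e rfl rfl he, resM_congr (hf j).symm he (by rw [Category.assoc, hfj]),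
    resM_comp (f j) (D.e j) rfl hfj, hv, resM_kv (f j) (c j) (hcp j) hfj (by rw [Category.assoc, hcp, hfj]),
    resM_kv (D'.e j) c' hp rfl (by rw [Category.assoc, hp])]
  exact kv_eq _ _ _ _ (by
    rw [Category.assoc, Category.assoc, hcq, hq, ← Category.assoc, hf, Category.assoc]) s

/-- The comparison value. -/
noncomputable def kappaVal {z : 𝒳.obj} [IsAffine (sch 𝒳 z)] {ia ib : C.I} (a : z ⟶ C.x ia) (b : z ⟶ C.x ib) (s : Φ.obj (C.x ib)) : MM Φ C a :=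
  (exists_kappaVal hfib a b s).choose

theorem resM_kappaVal {z : 𝒳.obj} [IsAffine (sch 𝒳 z)] {ia ib : C.I} (a : z ⟶ C.x ia) (b : z ⟶ C.x ib) (s : Φ.obj (C.x ib)) {d : 𝒳.obj}
    [IsAffine (sch 𝒳 d)] (e : d ⟶ z) {r : C.R ia ib} (c : d ⟶ C.w r) (hp : c ≫ C.p r = e ≫ a) (hq : c ≫ C.q r = e ≫ b) :
    resM e rfl (kappaVal hfib a b s) = kv Φ c hp s :=
  (exists_kappaVal hfib a b s).choose_spec d e _ c hp hq

theorem resM_kappaVal' {z : 𝒳.obj} [IsAffine (sch 𝒳 z)] {ia ib : C.I} (a : z ⟶ C.x ia) (b : z ⟶ C.x ib) (s : Φ.obj (C.x ib)) {d : 𝒳.obj}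
    [IsAffine (sch 𝒳 d)] (e : d ⟶ z) {a' : d ⟶ C.x ia} (h : e ≫ a = a') {r : C.R ia ib} (c : d ⟶ C.w r)
    (hp : c ≫ C.p r = a') (hq : c ≫ C.q r = e ≫ b) : resM e h (kappaVal hfib a b s) = kv Φ c hp s := by
  subst h
  exact resM_kappaVal hfib a b s e c hp hq

theorem kappaVal_unique {z : 𝒳.obj} [hz : IsAffine (sch 𝒳 z)] {ia ib : C.I} (a : z ⟶ C.x ia) (b : z ⟶ C.x ib) (s : Φ.obj (C.x ib)) {v : MM Φ C a}
    (hv : ∀ (d : 𝒳.obj) [IsAffine (sch 𝒳 d)] (e : d ⟶ z) (r : C.R ia ib) (c : d ⟶ C.w r)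
      (hp : c ≫ C.p r = e ≫ a), c ≫ C.q r = e ≫ b → resM e rfl v = kv Φ c hp s) : v = kappaVal hfib a b s := by
  obtain ⟨J, _, D, hD⟩ := C.overlap z hz a b
  refine eqM D fun j => ?_
  have := D.aff j
  obtain ⟨r, c, hp, hq⟩ := hD j
  rw [hv _ _ r c hp hq, resM_kappaVal hfib a b s _ c hp hq]

theorem kappaVal_sl {z : 𝒳.obj} [IsAffine (sch 𝒳 z)] {ia ib : C.I} (a : z ⟶ C.x ia) (b : z ⟶ C.x ib) (r : Γ(sch 𝒳 (C.x ib), ⊤)) (s : Φ.obj (C.x ib)) :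
    kappaVal hfib a b (r • s) = (bmap 𝒳 b).appTop.hom r • kappaVal hfib a b s := by
  refine (kappaVal_unique hfib a b _ fun d _ e r₀ c hp hq => ?_).symm
  rw [isSL_resM e rfl, resM_kappaVal hfib a b s e c hp hq, kv, kv, Φ.sl, isSL_psi]
  refine congrArg (· • _) ?_
  rw [← RingHom.comp_apply, ← bmap_hom_comp, ← hq, bmap_hom_comp]
  rfl

theorem exists_kappa {z : 𝒳.obj} [IsAffine (sch 𝒳 z)] {ia ib : C.I} (a : z ⟶ C.x ia) (b : z ⟶ C.x ib) :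
    ∃ K : MM Φ C b →ₗ[Γ(sch 𝒳 z, ⊤)] MM Φ C a, ∀ s, K (unitM Φ C b s) = kappaVal hfib a b s :=
  bc_extend (isBC_mk (bmap 𝒳 b).appTop.hom (Φ.obj (C.x ib)))
    (AddMonoidHom.mk' (kappaVal hfib a b) fun s t => (kappaVal_unique hfib a b _ fun d _ e r₀ c hp hq => by
      rw [map_add, resM_kappaVal hfib a b s e c hp hq, resM_kappaVal hfib a b t e c hp hq, kv, kv, kv, map_add,
        map_add]).symm)
    fun r s => kappaVal_sl hfib a b r s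

/-- The comparison. -/
noncomputable def kappa {z : 𝒳.obj} [IsAffine (sch 𝒳 z)] {ia ib : C.I} (a : z ⟶ C.x ia) (b : z ⟶ C.x ib) :
    MM Φ C b →ₗ[Γ(sch 𝒳 z, ⊤)] MM Φ C a :=
  (exists_kappa hfib a b).choose

theorem kappa_unit {z : 𝒳.obj} [IsAffine (sch 𝒳 z)] {ia ib : C.I} (a : z ⟶ C.x ia) (b : z ⟶ C.x ib) (s : Φ.obj (C.x ib)) :
    kappa hfib a b (unitM Φ C b s) = kappaVal hfib a b s :=
  (exists_kappa hfib a b).choose_spec s

theorem resM_kappa {z' z : 𝒳.obj} [IsAffine (sch 𝒳 z')] [IsAffine (sch 𝒳 z)] (g : z' ⟶ z) {ia ib : C.I} {a : z ⟶ C.x ia} {b : z ⟶ C.x ib}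
    {a' : z' ⟶ C.x ia} {b' : z' ⟶ C.x ib} (ha : g ≫ a = a') (hb : g ≫ b = b') (v : MM Φ C b) :
    resM g ha (kappa hfib a b v) = kappa hfib a' b' (resM g hb v) := by
  refine DFunLike.congr_fun (sl_ext (isBC_mk (bmap 𝒳 b).appTop.hom (Φ.obj (C.x ib))) (ψ := (bmap 𝒳 g).appTop.hom)
    (F := (resM g ha).comp (kappa hfib a b).toAddMonoidHom) (G := (kappa hfib a' b').toAddMonoidHom.comp (resM g hb))
    (fun r m => ?_) (fun r m => ?_) fun s => ?_) v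
  · show resM g ha (kappa hfib a b (r • m)) = _
    rw [map_smul, isSL_resM g ha]
    rfl
  · show kappa hfib a' b' (resM g hb (r • m)) = _
    rw [isSL_resM g hb, map_smul]
    rfl
  · show resM g ha (kappa hfib a b (unitM Φ C b s)) = kappa hfib a' b' (resM g hb (unitM Φ C b s))
    rw [resM_unit, kappa_unit, kappa_unit]
    refine kappaVal_unique hfib a' b' s fun d _ e r₀ c hp hq => ?_
    have h₃ : (e ≫ g) ≫ a = e ≫ a' := by rw [Category.assoc, ha]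
    rw [← resM_comp e g ha rfl h₃]
    exact resM_kappaVal' hfib a b s (e ≫ g) h₃ c hp (by rw [hq, Category.assoc, hb])

/-- The comparison through an object over the chart with flat first map. -/
theorem kappa_spec {d₀ : 𝒳.obj} [hd₀ : IsAffine (sch 𝒳 d₀)] {ia ib : C.I} {P : d₀ ⟶ C.x ia}
    {Q : d₀ ⟶ C.x ib} (hP : Flat (bmap 𝒳 P)) {d : 𝒳.obj} [IsAffine (sch 𝒳 d)] (f : d ⟶ d₀) {a : d ⟶ C.x ia}
    {b : d ⟶ C.x ib} (ha : f ≫ P = a) (hb : f ≫ Q = b) (s : Φ.obj (C.x ib)) :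
    kappa hfib a b (unitM Φ C b s) = psi hP f ha (Φ.res Q s) := by
  obtain ⟨J, _, D, hD⟩ := C.overlap d₀ hd₀ P Q
  obtain ⟨D', f', hf'⟩ := D.exists_pullback hfib f
  rw [kappa_unit]
  refine eqM D' fun j => ?_
  have := D.aff j
  have := D'.aff j
  obtain ⟨rw₀, c, hcp, hcq⟩ := hD j
  have hP₁ : Flat (bmap 𝒳 (D.e j ≫ P)) := by
    have := D.flat j
    rw [StMod.bmap_comp]
    exact MorphismProperty.comp_mem @Flat _ _ inferInstance hP
  have h₁ : f' j ≫ D.e j ≫ P = D'.e j ≫ a := by rw [← Category.assoc, hf', Category.assoc, ha]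
  have h₂ : (f' j ≫ c) ≫ C.p rw₀ = D'.e j ≫ a := by rw [Category.assoc, hcp, h₁]
  rw [resM_kappaVal hfib a b s (D'.e j) (f' j ≫ c) h₂ (by
      rw [Category.assoc, hcq, ← Category.assoc, hf', Category.assoc, hb]),
    resM_psi hP (D'.e j) f ha rfl (by rw [Category.assoc, ha])]
  have k₁ := psi_comp (Φ := Φ) (C.flat rw₀) c hcp hP₁ (f' j) h₁ h₂ (Φ.res (C.q rw₀) s)
  have k₂ := psi_comp (Φ := Φ) hP (D.e j) rfl hP₁ (f' j) h₁ (by rw [Category.assoc, h₁]) (Φ.res Q s)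
  refine k₁.symm.trans (Eq.trans ?_ (k₂.trans (psi_congr hP (hf' j) _ _ _)))
  rw [← Φ.res_comp, ← Φ.res_comp, hcq]

theorem kappa_self {z : 𝒳.obj} [IsAffine (sch 𝒳 z)] {ia : C.I} (a : z ⟶ C.x ia) (v : MM Φ C a) : kappa hfib a a v = v := by
  refine LinearMap.congr_fun (bc_ext (isBC_mk (bmap 𝒳 a).appTop.hom (Φ.obj (C.x ia))) (G := LinearMap.id) (s := Set.univ)
    Submodule.span_univ fun s _ => ?_) v
  have hid : Flat (bmap 𝒳 (𝟙 (C.x ia))) := by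
    rw [StMod.bmap_id]
    infer_instance
  show kappa hfib a a (unitM Φ C a s) = unitM Φ C a s
  rw [kappa_spec hfib hid a (Category.comp_id a) (Category.comp_id a), psi_res]

theorem kappa_trans {z : 𝒳.obj} [hz : IsAffine (sch 𝒳 z)] {ia ib ic : C.I} (a : z ⟶ C.x ia) (b : z ⟶ C.x ib)
    (c : z ⟶ C.x ic) (v : MM Φ C c) :
    kappa hfib a b (kappa hfib b c v) = kappa hfib a c v := by
  refine LinearMap.congr_fun (bc_ext (isBC_mk (bmap 𝒳 c).appTop.hom (Φ.obj (C.x ic)))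
    (F := (kappa hfib a b).comp (kappa hfib b c)) (s := Set.univ) Submodule.span_univ fun s _ => ?_) v
  show kappa hfib a b (kappa hfib b c (unitM Φ C c s)) = kappa hfib a c (unitM Φ C c s)
  obtain ⟨J, _, D, hD⟩ := C.overlap z hz a b
  choose r₁ c₁ hp₁ hq₁ using hD
  have hE : ∀ j, ∃ (K : Type u) (_ : Finite K) (E : Cover (D.E j) K), ∀ i, ∃ (r : C.R ib ic) (c' : E.E i ⟶ C.w r),
      c' ≫ C.p r = E.e i ≫ D.e j ≫ b ∧ c' ≫ C.q r = E.e i ≫ D.e j ≫ c := fun j => C.overlap _ (D.aff j) _ _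
  choose K _ E hE using hE
  choose r₂ c₂ hp₂ hq₂ using hE
  refine eqM (D.bind E) fun ji => ?_
  obtain ⟨j, i⟩ := ji
  have := (E j).aff i
  show resM ((E j).e i ≫ D.e j) rfl _ = resM ((E j).e i ≫ D.e j) rfl _
  let d := (E j).E i
  let e : d ⟶ z := (E j).e i ≫ D.e j
  let f₁ : d ⟶ C.w (r₁ j) := (E j).e i ≫ c₁ j
  let f₂ : d ⟶ C.w (r₂ j i) := c₂ j i
  -- the composite of the two relations
  obtain ⟨d3, π₁, iso, hπ₁⟩ := exists_obj hfib (C.w (r₁ j)) (pullback.fst (bmap 𝒳 (C.q (r₁ j))) (bmap 𝒳 (C.p (r₂ j i))))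
  have : IsAffine (sch 𝒳 d3) := IsAffine.of_isIso iso.hom
  obtain ⟨π₂, hπ₂b, hπ₂⟩ := exists_hom_over hfib (π₁ ≫ C.q (r₁ j)) (C.p (r₂ j i))
    (iso.hom ≫ pullback.snd (bmap 𝒳 (C.q (r₁ j))) (bmap 𝒳 (C.p (r₂ j i)))) (by
      rw [StMod.bmap_comp, hπ₁, Category.assoc, Category.assoc, pullback.condition])
  have hP3 : Flat (bmap 𝒳 (π₁ ≫ C.p (r₁ j))) := by
    have := C.flat (r₁ j)
    have := C.flat (r₂ j i)
    rw [StMod.bmap_comp, hπ₁]
    infer_instance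
  have h12 : f₁ ≫ C.q (r₁ j) = f₂ ≫ C.p (r₂ j i) := by
    show ((E j).e i ≫ c₁ j) ≫ C.q (r₁ j) = c₂ j i ≫ C.p (r₂ j i)
    rw [Category.assoc, hq₁, hp₂]
  obtain ⟨f, hfb, hf₁⟩ := exists_hom_over hfib f₁ π₁
    (pullback.lift (bmap 𝒳 f₁) (bmap 𝒳 f₂) (by rw [← StMod.bmap_comp, ← StMod.bmap_comp, h12]) ≫ iso.inv) (by
      rw [hπ₁, Category.assoc, Iso.inv_hom_id_assoc, pullback.lift_fst])
  have hf₂ : f ≫ π₂ = f₂ := by
    refine BasedBasic.hom_eq_of_comp_eq hfib (C.p (r₂ j i)) (Over.OverMorphism.ext ?_) ?_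
    · show bmap 𝒳 (f ≫ π₂) = bmap 𝒳 f₂
      rw [StMod.bmap_comp, hfb, hπ₂b, Category.assoc, Iso.inv_hom_id_assoc, pullback.lift_snd]
    · rw [Category.assoc, hπ₂, ← Category.assoc, hf₁, h12]
  have ha : f ≫ (π₁ ≫ C.p (r₁ j)) = e ≫ a := by
    rw [← Category.assoc, hf₁]
    show ((E j).e i ≫ c₁ j) ≫ C.p (r₁ j) = ((E j).e i ≫ D.e j) ≫ a
    rw [Category.assoc, hp₁, Category.assoc]
  have hb : f₂ ≫ C.p (r₂ j i) = e ≫ b := by
    show c₂ j i ≫ C.p (r₂ j i) = ((E j).e i ≫ D.e j) ≫ b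
    rw [hp₂, Category.assoc]
  have hc : f₂ ≫ C.q (r₂ j i) = e ≫ c := by
    show c₂ j i ≫ C.q (r₂ j i) = ((E j).e i ≫ D.e j) ≫ c
    rw [hq₂, Category.assoc]
  rw [resM_kappa hfib e rfl rfl, resM_kappa hfib e rfl rfl, resM_kappa hfib e rfl rfl, resM_unit,
    kappa_spec hfib hP3 (Q := π₂ ≫ C.q (r₂ j i)) f ha (by rw [← Category.assoc, hf₂, hc]),
    kappa_spec hfib (C.flat (r₂ j i)) f₂ hb hc, Φ.res_comp]
  generalize Φ.res (C.q (r₂ j i)) s = t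
  refine DFunLike.congr_fun (sl_ext (Φ.bc (C.p (r₂ j i)) (C.flat (r₂ j i)))
    (F := (kappa hfib (e ≫ a) (e ≫ b)).toAddMonoidHom.comp (psi (C.flat (r₂ j i)) f₂ hb))
    (G := (psi hP3 f ha).comp (Φ.res π₂)) (ψ := (bmap 𝒳 f₂).appTop.hom) (fun r m => ?_) (fun r m => ?_) fun m => ?_) t
  · show kappa hfib _ _ (psi (C.flat (r₂ j i)) f₂ hb (r • m)) = _
    rw [isSL_psi (C.flat (r₂ j i)) f₂ hb, map_smul]
    rfl
  · show psi hP3 f ha (Φ.res π₂ (r • m)) = _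
    rw [Φ.sl π₂, isSL_psi hP3 f ha, ← RingHom.comp_apply, ← bmap_hom_comp, hf₂]
    rfl
  · show kappa hfib _ _ (psi (C.flat (r₂ j i)) f₂ hb (Φ.res (C.p (r₂ j i)) m)) = psi hP3 f ha (Φ.res π₂ (Φ.res (C.p (r₂ j i)) m))
    rw [psi_res, ← Φ.res_comp, hπ₂, kappa_spec hfib hP3 (Q := π₁ ≫ C.q (r₁ j)) f ha (by
      rw [← Category.assoc, hf₁, h12, hb])]

theorem bijective_kappa {z : 𝒳.obj} [IsAffine (sch 𝒳 z)] {ia ib : C.I} (a : z ⟶ C.x ia) (b : z ⟶ C.x ib) :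
    Function.Bijective (kappa (Φ := Φ) hfib a b) :=
  Function.bijective_iff_has_inverse.2 ⟨kappa hfib b a, fun v => (kappa_trans hfib b a b v).trans (kappa_self hfib b v),
    fun v => (kappa_trans hfib a b a v).trans (kappa_self hfib a v)⟩

end Groth.Agent.H14.MultiExt
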