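import Groth.Agent.H14.MultiExt.Chart

/-!
Extensions of functors of modules along maps to the members of an indexed chart.
-/

set_option autoImplicit false
set_option backward.isDefEq.respectTransparency false
set_option backward.isDefEq.respectTransparency.types false
set_option linter.style.haveILetI false

universe u

open CategoryTheory CategoryTheory.Limits AlgebraicGeometry Opposite TensorProduct
open StMod (sch bmap)
open Groth.Agent.Lib.AlgStack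
open Groth.Agent.H14.ModDesc
open Groth.Agent.H14.GenFam (FlatFun Ext AlgB isBC_mk sl_ext sl_extend bmap_hom_comp Cover exists_obj exists_hom_over)

namespace Groth.Agent.H14.MultiExt

variable {S : Scheme.{u}} {𝒳 : AlgSt.Cat S}

variable (Φ : FlatFun 𝒳) (C : MChart 𝒳)

/-- The extension of the module of the chart along a map to it. -/
abbrev MM {ix : C.I} {z : 𝒳.obj} (a : z ⟶ (C.x ix)) : Type u := Ext (bmap 𝒳 a).appTop.hom (Φ.obj (C.x ix))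

/-- The unit of the extension. -/
noncomputable abbrev unitM {ix : C.I} {z : 𝒳.obj} (a : z ⟶ (C.x ix)) : Φ.obj (C.x ix) →+ MM Φ C a := Ext.mk _ _

variable {Φ C} {ix : C.I}

/-- Restriction of the extensions. -/
theorem exists_resM {z' z : 𝒳.obj} (g : z' ⟶ z) {a : z ⟶ (C.x ix)} {a' : z' ⟶ (C.x ix)} (h : g ≫ a = a') :
    ∃ F : MM Φ C a →+ MM Φ C a', IsSL (bmap 𝒳 g).appTop.hom F ∧ ∀ m, F (unitM Φ C a m) = unitM Φ C a' m := by
  subst h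
  exact sl_extend (isBC_mk _ _) _ (bmap_hom_comp g a ▸ (isBC_mk _ (Φ.obj (C.x ix))).sl)

/-- Restriction of the extensions. -/
noncomputable def resM {z' z : 𝒳.obj} (g : z' ⟶ z) {a : z ⟶ (C.x ix)} {a' : z' ⟶ (C.x ix)} (h : g ≫ a = a') :
    MM Φ C a →+ MM Φ C a' :=
  (exists_resM g h).choose

theorem isSL_resM {z' z : 𝒳.obj} (g : z' ⟶ z) {a : z ⟶ (C.x ix)} {a' : z' ⟶ (C.x ix)} (h : g ≫ a = a') :
    IsSL (bmap 𝒳 g).appTop.hom (resM (Φ := Φ) g h) :=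
  (exists_resM g h).choose_spec.1

theorem resM_unit {z' z : 𝒳.obj} (g : z' ⟶ z) {a : z ⟶ (C.x ix)} {a' : z' ⟶ (C.x ix)} (h : g ≫ a = a') (m : Φ.obj (C.x ix)) :
    resM g h (unitM Φ C a m) = unitM Φ C a' m :=
  (exists_resM g h).choose_spec.2 m

theorem resM_unique {z' z : 𝒳.obj} (g : z' ⟶ z) {a : z ⟶ (C.x ix)} {a' : z' ⟶ (C.x ix)} (h : g ≫ a = a')
    {F : MM Φ C a →+ MM Φ C a'} (hs : IsSL (bmap 𝒳 g).appTop.hom F)
    (hu : ∀ m, F (unitM Φ C a m) = unitM Φ C a' m) : F = resM g h :=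
  sl_ext (isBC_mk _ _) hs (isSL_resM g h) fun m => (hu m).trans (resM_unit g h m).symm

theorem resM_id {z : 𝒳.obj} {a : z ⟶ (C.x ix)} (h : 𝟙 z ≫ a = a) (v : MM Φ C a) : resM (𝟙 z) h v = v := by
  refine (DFunLike.congr_fun (resM_unique (𝟙 z) h (F := AddMonoidHom.id _) (fun r m => ?_) fun m => rfl) v).symm
  show r • m = (bmap 𝒳 (𝟙 z)).appTop.hom r • m
  rw [StMod.bmap_id, Scheme.Hom.id_appTop]
  rfl

theorem resM_comp {z'' z' z : 𝒳.obj} (g' : z'' ⟶ z') (g : z' ⟶ z) {a : z ⟶ (C.x ix)} {a' : z' ⟶ (C.x ix)}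
    {a'' : z'' ⟶ (C.x ix)} (h : g ≫ a = a') (h' : g' ≫ a' = a'') (h'' : (g' ≫ g) ≫ a = a'') (v : MM Φ C a) :
    resM (g' ≫ g) h'' v = resM g' h' (resM g h v) := by
  refine (DFunLike.congr_fun (resM_unique (g' ≫ g) h'' (F := (resM g' h').comp (resM g h)) (fun r m => ?_)
    fun m => ?_) v).symm
  · show resM g' h' (resM g h (r • m)) = (bmap 𝒳 (g' ≫ g)).appTop.hom r • resM g' h' (resM g h m)
    rw [isSL_resM g h, isSL_resM g' h', bmap_hom_comp]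
    rfl
  · show resM g' h' (resM g h (unitM Φ C a m)) = _
    rw [resM_unit, resM_unit]

theorem resM_congr {z' z : 𝒳.obj} {g g' : z' ⟶ z} (e : g = g') {a : z ⟶ (C.x ix)} {a' : z' ⟶ (C.x ix)} (h : g ≫ a = a')
    (h' : g' ≫ a = a') (v : MM Φ C a) : resM g h v = resM g' h' v := by
  subst e
  rfl

theorem isBC_resM {z' z : 𝒳.obj} (g : z' ⟶ z) {a : z ⟶ (C.x ix)} {a' : z' ⟶ (C.x ix)} (h : g ≫ a = a') :
    IsBC (bmap 𝒳 g).appTop.hom (resM (Φ := Φ) g h) := by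
  refine IsBC.of_comp (isBC_mk _ _) (isSL_resM g h) ((isBC_mk (bmap 𝒳 a').appTop.hom _).congr ?_ ?_)
  · rw [← bmap_hom_comp, h]
  · exact AddMonoidHom.ext fun m => (resM_unit g h m).symm

/-- Elements agreeing on a cover agree. -/
theorem eqM {z : 𝒳.obj} [IsAffine (sch 𝒳 z)] {J : Type*} (D : Cover z J) {a : z ⟶ (C.x ix)} {v v' : MM Φ C a}
    (h : ∀ j, resM (D.e j) rfl v = resM (D.e j) rfl v') : v = v' := by
  let : ∀ j, Algebra Γ(sch 𝒳 z, ⊤) Γ(sch 𝒳 (D.E j), ⊤) := fun j => (bmap 𝒳 (D.e j)).appTop.hom.toAlgebra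
  have : ∀ j, IsAffine (sch 𝒳 (D.E j)) := D.aff
  have : ∀ j, Module.Flat Γ(sch 𝒳 z, ⊤) Γ(sch 𝒳 (D.E j), ⊤) := fun j =>
    have := D.flat j
    flat_appTop (bmap 𝒳 (D.e j))
  rw [← sub_eq_zero]
  refine eq_zero_of_isBC (fun j => Γ(sch 𝒳 (D.E j), ⊤))
    (jointlySurj_appTop (fun j => bmap 𝒳 (D.e j)) (fun j => rfl) D.surj)
    (fun j => resM (D.e j) rfl) (fun j => isBC_resM _ _) _ fun j => ?_
  rw [map_sub, sub_eq_zero]
  exact h j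

/-- Elements on a finite cover agreeing on overlaps glue. -/
theorem exists_glueM (hfib : FibCat.IsFibGrpd 𝒳.p) {z : 𝒳.obj} [IsAffine (sch 𝒳 z)] {J : Type*} [Finite J]
    (D : Cover z J) {a : z ⟶ (C.x ix)} (y : ∀ j, MM Φ C (D.e j ≫ a))
    (hy : ∀ i j (d : 𝒳.obj), IsAffine (sch 𝒳 d) → ∀ (s : d ⟶ D.E i) (t : d ⟶ D.E j) (a' : d ⟶ (C.x ix))
      (h₁ : s ≫ D.e i ≫ a = a') (h₂ : t ≫ D.e j ≫ a = a'), s ≫ D.e i = t ≫ D.e j →
        resM s h₁ (y i) = resM t h₂ (y j)) :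
    ∃ v, ∀ j, resM (D.e j) rfl v = y j := by
  let : ∀ j, Algebra Γ(sch 𝒳 z, ⊤) Γ(sch 𝒳 (D.E j), ⊤) := fun j => (bmap 𝒳 (D.e j)).appTop.hom.toAlgebra
  have : ∀ j, IsAffine (sch 𝒳 (D.E j)) := D.aff
  have : ∀ j, Module.Flat Γ(sch 𝒳 z, ⊤) Γ(sch 𝒳 (D.E j), ⊤) := fun j =>
    have := D.flat j
    flat_appTop (bmap 𝒳 (D.e j))
  refine ModDesc.exists_glue (fun j => Γ(sch 𝒳 (D.E j), ⊤))
    (jointlySurj_appTop (fun j => bmap 𝒳 (D.e j)) (fun j => rfl) D.surj)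
    (fun j => resM (D.e j) rfl) (fun j => isBC_resM _ _) y fun i j => ?_
  obtain ⟨d, φ, iso, hφ⟩ := exists_obj hfib (D.E i) (pullback.fst (bmap 𝒳 (D.e i)) (bmap 𝒳 (D.e j)))
  have hd : IsAffine (sch 𝒳 d) := IsAffine.of_isIso iso.hom
  obtain ⟨t, ht, hte⟩ := exists_hom_over hfib (φ ≫ D.e i) (D.e j)
    (iso.hom ≫ pullback.snd (bmap 𝒳 (D.e i)) (bmap 𝒳 (D.e j))) (by
      rw [StMod.bmap_comp, hφ, Category.assoc, Category.assoc, pullback.condition])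
  have hP : IsPullback (bmap 𝒳 φ) (bmap 𝒳 t) (bmap 𝒳 (D.e i)) (bmap 𝒳 (D.e j)) := by
    rw [hφ, ht]
    exact (IsPullback.of_hasPullback _ _).of_iso iso.symm (Iso.refl _) (Iso.refl _) (Iso.refl _)
      (by simp) (by simp) (by simp) (by simp)
  obtain ⟨alg, i₁, i₂, h₁, h₂, hbij⟩ := exists_algHom hP rfl rfl
  have e₂ : t ≫ D.e j ≫ a = φ ≫ D.e i ≫ a := by rw [← Category.assoc, hte, Category.assoc]
  refine ⟨Γ(sch 𝒳 d, ⊤), inferInstance, alg, i₁, i₂, hbij, MM Φ C (φ ≫ D.e i ≫ a), inferInstance, inferInstance,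
    resM φ rfl, resM t e₂, (isBC_resM t e₂).congr h₂.symm rfl, fun r x => ?_, fun x => ?_,
    hy i j d hd φ t _ rfl e₂ hte.symm⟩
  · rw [h₁]
    exact isSL_resM φ _ r x
  · rw [← resM_comp φ (D.e i) rfl rfl (Category.assoc _ _ _), ← resM_comp t (D.e j) rfl e₂ (by rw [Category.assoc, e₂])]
    exact resM_congr hte.symm _ _ x

variable {d₀ : 𝒳.obj} [IsAffine (sch 𝒳 d₀)] {P : d₀ ⟶ (C.x ix)}

/-- The map induced by a flat map to the chart and a map to its source. -/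
theorem exists_psi (hP : Flat (bmap 𝒳 P)) {d : 𝒳.obj} (f : d ⟶ d₀) {a' : d ⟶ (C.x ix)} (h : f ≫ P = a') :
    ∃ F : Φ.obj d₀ →+ MM Φ C a', IsSL (bmap 𝒳 f).appTop.hom F ∧ ∀ m, F (Φ.res P m) = unitM Φ C a' m := by
  subst h
  exact sl_extend (Φ.bc P hP) _ (bmap_hom_comp f P ▸ (isBC_mk _ (Φ.obj (C.x ix))).sl)

/-- The map induced by a flat map to the chart and a map to its source. -/
noncomputable def psi (hP : Flat (bmap 𝒳 P)) {d : 𝒳.obj} (f : d ⟶ d₀) {a' : d ⟶ (C.x ix)} (h : f ≫ P = a') :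
    Φ.obj d₀ →+ MM Φ C a' :=
  (exists_psi hP f h).choose

theorem isSL_psi (hP : Flat (bmap 𝒳 P)) {d : 𝒳.obj} (f : d ⟶ d₀) {a' : d ⟶ (C.x ix)} (h : f ≫ P = a') :
    IsSL (bmap 𝒳 f).appTop.hom (psi (Φ := Φ) hP f h) :=
  (exists_psi hP f h).choose_spec.1

theorem psi_res (hP : Flat (bmap 𝒳 P)) {d : 𝒳.obj} (f : d ⟶ d₀) {a' : d ⟶ (C.x ix)} (h : f ≫ P = a') (m : Φ.obj (C.x ix)) :
    psi hP f h (Φ.res P m) = unitM Φ C a' m :=
  (exists_psi hP f h).choose_spec.2 m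

theorem psi_unique (hP : Flat (bmap 𝒳 P)) {d : 𝒳.obj} (f : d ⟶ d₀) {a' : d ⟶ (C.x ix)} (h : f ≫ P = a')
    {F : Φ.obj d₀ →+ MM Φ C a'} (hs : IsSL (bmap 𝒳 f).appTop.hom F)
    (hu : ∀ m, F (Φ.res P m) = unitM Φ C a' m) : F = psi hP f h :=
  sl_ext (Φ.bc P hP) hs (isSL_psi hP f h) fun m => (hu m).trans (psi_res hP f h m).symm

theorem psi_congr (hP : Flat (bmap 𝒳 P)) {d : 𝒳.obj} {f f' : d ⟶ d₀} (e : f = f') {a' : d ⟶ (C.x ix)} (h : f ≫ P = a')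
    (h' : f' ≫ P = a') (s : Φ.obj d₀) : psi hP f h s = psi hP f' h' s := by
  subst e
  rfl

theorem resM_psi (hP : Flat (bmap 𝒳 P)) {d' d : 𝒳.obj} (g : d' ⟶ d) (f : d ⟶ d₀) {a : d ⟶ (C.x ix)} {a' : d' ⟶ (C.x ix)}
    (h : f ≫ P = a) (hg : g ≫ a = a') (h' : (g ≫ f) ≫ P = a') (s : Φ.obj d₀) :
    resM g hg (psi hP f h s) = psi hP (g ≫ f) h' s := by
  refine DFunLike.congr_fun (psi_unique hP (g ≫ f) h' (F := (resM g hg).comp (psi hP f h)) (fun r m => ?_)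
    fun m => ?_) s
  · show resM g hg (psi hP f h (r • m)) = (bmap 𝒳 (g ≫ f)).appTop.hom r • resM g hg (psi hP f h m)
    rw [isSL_psi hP f h, isSL_resM g hg, bmap_hom_comp]
    rfl
  · show resM g hg (psi hP f h (Φ.res P m)) = _
    rw [psi_res, resM_unit]

theorem psi_comp (hP : Flat (bmap 𝒳 P)) {d₁ : 𝒳.obj} [IsAffine (sch 𝒳 d₁)] (h' : d₁ ⟶ d₀) {P₁ : d₁ ⟶ (C.x ix)}
    (e : h' ≫ P = P₁) (hP₁ : Flat (bmap 𝒳 P₁)) {d : 𝒳.obj} (f : d ⟶ d₁) {a' : d ⟶ (C.x ix)} (h₁ : f ≫ P₁ = a')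
    (h : (f ≫ h') ≫ P = a') (s : Φ.obj d₀) :
    psi hP₁ f h₁ (Φ.res h' s) = psi hP (f ≫ h') h s := by
  refine DFunLike.congr_fun (psi_unique hP (f ≫ h') h (F := (psi hP₁ f h₁).comp (Φ.res h')) (fun r m => ?_)
    fun m => ?_) s
  · show psi hP₁ f h₁ (Φ.res h' (r • m)) = (bmap 𝒳 (f ≫ h')).appTop.hom r • psi hP₁ f h₁ (Φ.res h' m)
    rw [Φ.sl h', isSL_psi hP₁ f h₁, bmap_hom_comp]
    rfl
  · show psi hP₁ f h₁ (Φ.res h' (Φ.res P m)) = _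
    subst e
    rw [← Φ.res_comp, psi_res]

end Groth.Agent.H14.MultiExt
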